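import Cfsg.Agent.R2.T1.Odd.Typ
import Cfsg.Agent.R2.T1.Inf.Cov

/-!
# S5771, ODD5: the preimage of `A_n`, `n ≥ 8`, is not a proper double cover (helper11)

In the cover case double transpositions lift to square roots of `-1`; so the product of four disjoint transpositions
lifts to an involution `t` conjugate to `-t`, and `dim V_1(t) = 28`, which is not the type of an involution.
-/

set_option autoImplicit false

universe u

namespace Cfsg.Agent.R2.T1.Odd

open Equiv Module Cfsg Cfsg.Lie
open Cfsg.Agent.R2.T1.Art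
open Cfsg.Agent.H943.E7V.Block (D1 rho)
open Cfsg.Agent.H952.F4 (ev es matRep MaxAlt)

section lin
variable {F : Type*} [Field F] {W : Type*} [AddCommGroup W] [Module F W]

theorem ev_half [FiniteDimensional F W] (h2 : (2 : F) ≠ 0) {T G : Module.End F W} (hT : ∀ v, T (T v) = v)
    (hG : ∀ v, G (G v) = -v) (hGT : ∀ v, G (T v) = -T (G v)) : 2 * ev T 1 = finrank F W := by
  have hGi : Function.Injective G := by
    intro v w h
    have h1 := congrArg G h
    rw [hG, hG] at h1
    exact neg_injective h1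
  have h1 : (Module.End.eigenspace T 1).map G ≤ Module.End.eigenspace T (-1) := by
    rintro _ ⟨v, hv, rfl⟩
    have hv' : T v = v := by
      have := Module.End.mem_eigenspace_iff.1 hv
      rwa [one_smul] at this
    rw [Module.End.mem_eigenspace_iff, neg_smul, one_smul]
    have h3 := hGT v
    rw [hv'] at h3
    exact neg_eq_iff_eq_neg.1 h3.symm
  have h2' : (Module.End.eigenspace T (-1)).map G ≤ Module.End.eigenspace T 1 := by
    rintro _ ⟨v, hv, rfl⟩
    have hv' : T v = -v := by
      have := Module.End.mem_eigenspace_iff.1 hv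
      rwa [neg_smul, one_smul] at this
    rw [Module.End.mem_eigenspace_iff, one_smul]
    have h3 := hGT v
    rw [hv', map_neg] at h3
    exact (neg_injective h3).symm
  have h3 : finrank F ↥((Module.End.eigenspace T 1).map G) = finrank F ↥(Module.End.eigenspace T 1) :=
    (LinearEquiv.finrank_eq (Submodule.equivMapOfInjective G hGi _)).symm
  have h4 : finrank F ↥((Module.End.eigenspace T (-1)).map G) = finrank F ↥(Module.End.eigenspace T (-1)) :=
    (LinearEquiv.finrank_eq (Submodule.equivMapOfInjective G hGi _)).symm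
  have h5 := Submodule.finrank_mono h1
  have h6 := Submodule.finrank_mono h2'
  have hc : IsCompl (Module.End.eigenspace T 1) (Module.End.eigenspace T (-1)) := by
    constructor
    · rw [Submodule.disjoint_def]
      intro v hv hw
      rw [Module.End.mem_eigenspace_iff] at hv hw
      rw [one_smul] at hv
      rw [neg_smul, one_smul, hv] at hw
      have h7 : (2 : F) • v = 0 := by rw [two_smul]; nth_rewrite 1 [hw]; exact neg_add_cancel v
      exact (smul_eq_zero.1 h7).resolve_left h2
    · rw [codisjoint_iff, eq_top_iff]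
      intro v _
      have h7 : v = (2 : F)⁻¹ • (v + T v) + (2 : F)⁻¹ • (v - T v) := by
        rw [← smul_add, show v + T v + (v - T v) = (2 : F) • v by rw [two_smul]; abel, smul_smul, inv_mul_cancel₀ h2, one_smul]
      rw [h7]
      refine Submodule.add_mem_sup (Submodule.smul_mem _ _ ?_) (Submodule.smul_mem _ _ ?_)
      · rw [Module.End.mem_eigenspace_iff, one_smul, map_add, hT, add_comm]
      · rw [Module.End.mem_eigenspace_iff, neg_smul, one_smul, map_sub, hT, neg_sub]
  have h7 := Submodule.finrank_add_eq_of_isCompl hc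
  have e1 : ev T 1 = finrank F ↥(Module.End.eigenspace T 1) := rfl
  omega

end lin

variable {n : ℕ} [NeZero n] {F : Type u} [Field F]

theorem ct_P (hn : 8 ≤ n) {a b c d : ℕ} (hv : vl 8 [(a, b), (c, d)] = true) (h1 : a ≠ c) (h2 : a ≠ d) (h3 : b ≠ c)
    (h4 : b ≠ d) : ((P n [(a, b), (c, d)] : ↥(alternatingGroup (Fin n))) : Perm (Fin n)).cycleType = {2, 2} := by
  have h := (vl_iff.1 hv).2
  have e1 := h (a, b) (by simp)
  have e2 := h (c, d) (by simp)
  simp only at e1 e2
  rw [coe_P hn hv, pm_cons, pm_cons, pm_nil, mul_one]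
  have key : ∀ {i j : ℕ}, i < 8 → j < 8 → i ≠ j → Fin.ofNat n i ≠ Fin.ofNat n j := fun hi hj hij h =>
    hij (ofNat_inj (by omega) (by omega) h)
  exact ct_swaps (key e1.1 e2.1 h1) (key e1.1 e2.2.1 h2) (key e1.1 e1.2.1 e1.2.2) (key e2.1 e1.2.1 h3.symm)
    (key e2.1 e2.2.1 e2.2.2) (key e1.2.1 e2.2.1 h4)

/-- a lift commutes with the lifts of order 3 -/
theorem comm_three {x c : Gh F} (hc : c ^ 3 = 1) (h : ad F x * ad F c = ad F c * ad F x) : x * c = c * x := by
  have h1 : x * c * x⁻¹ = c := by
    refine odd_unique (k := 3) (by decide) ?_ ?_ hc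
    · rw [map_mul, map_mul, map_inv, h, mul_inv_cancel_right]
    · rw [conj_pow, hc, mul_one, mul_inv_cancel]
  calc x * c = x * c * x⁻¹ * x := by rw [inv_mul_cancel_right]
    _ = c * x := by rw [h1]

/-- **no double cover for `n ≥ 8`** -/
theorem no_cover [Finite F] (hn : 8 ≤ n) (h2 : (2 : F) ≠ 0) {φ : ↥(alternatingGroup (Fin n)) →* ↥(chevE7.group F)}
    (hφ : Function.Injective φ) : ¬ Cover φ := by
  intro hc
  have hP : ∀ {l r : List (ℕ × ℕ)}, vl 8 l = true → vl 8 r = true → P n (l ++ r) = P n l * P n r := fun h h' =>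
    P_append hn h h'
  obtain ⟨a, ha⟩ := ad_surjective (φ (P n [(0, 1), (2, 3)]))
  obtain ⟨g, hg⟩ := ad_surjective (φ (P n [(0, 2), (1, 3)]))
  have hex : ∀ l : List (ℕ × ℕ), P n l ^ 3 = 1 → ∃ c : Gh F, ad F c = φ (P n l) ∧ c ^ 3 = 1 := fun l hl =>
    odd_lift (k := 3) (by decide) (by rw [← map_pow, hl, map_one])
  have hcube : ∀ l : List (ℕ × ℕ), vl 8 l = true → cd 8 (pwl l 3) = cd 8 [] → P n l ^ 3 = 1 := fun l h h' =>
    P_pow_one hn h h'
  obtain ⟨c, hc1, hc3⟩ := hex [(4, 5), (5, 6)] (hcube _ (by decide) (by decide))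
  obtain ⟨d, hd1, hd3⟩ := hex [(5, 6), (6, 7)] (hcube _ (by decide) (by decide))
  have hcom : ∀ {x y : Gh F} {l r : List (ℕ × ℕ)}, ad F x = φ (P n l) → ad F y = φ (P n r) → y ^ 3 = 1 →
      vl 8 l = true → vl 8 r = true → cd 8 (l ++ r) = cd 8 (r ++ l) → x * y = y * x := by
    intro x y l r hx hy hy3 hl hr h
    refine comm_three hy3 ?_
    rw [hx, hy, ← map_mul, ← map_mul, ← hP hl hr, ← hP hr hl, (P_eq_iff hn (vl_append hl hr) (vl_append hr hl)).2 h]
  have k1 := hcom ha hc1 hc3 (by decide) (by decide) (by decide)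
  have k2 := hcom ha hd1 hd3 (by decide) (by decide) (by decide)
  have k3 := hcom hg hc1 hc3 (by decide) (by decide) (by decide)
  have k4 := hcom hg hd1 hd3 (by decide) (by decide) (by decide)
  have hab : a * (c * d) = c * d * a := by rw [← mul_assoc, k1, mul_assoc, k2, mul_assoc]
  have hgb : g * (c * d) = c * d * g := by rw [← mul_assoc, k3, mul_assoc, k4, mul_assoc]
  have hb : ad F (c * d) = φ (P n [(4, 5), (6, 7)]) := by
    rw [map_mul, hc1, hd1, ← map_mul, ← hP (by decide) (by decide)]
    exact congrArg φ ((P_eq_iff hn (by decide) (by decide)).2 (by decide))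
  have hga : ad F (g * a) = φ (P n [(0, 3), (1, 2)]) := by
    rw [map_mul, ha, hg, ← map_mul, ← hP (by decide) (by decide)]
    exact congrArg φ ((P_eq_iff hn (by decide) (by decide)).2 (by decide))
  have s1 := hc.sq (by omega) hφ (ct_P hn (by decide) (by decide) (by decide) (by decide) (by decide)) ha
  have s2 := hc.sq (by omega) hφ (ct_P hn (by decide) (by decide) (by decide) (by decide) (by decide)) hg
  have s3 := hc.sq (by omega) hφ (ct_P hn (by decide) (by decide) (by decide) (by decide) (by decide)) hb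
  have s4 := hc.sq (by omega) hφ (ct_P hn (by decide) (by decide) (by decide) (by decide) (by decide)) hga
  obtain ⟨b, hbdef⟩ : ∃ b, b = c * d := ⟨_, rfl⟩
  rw [← hbdef] at hab hgb hb s3
  have v1 : ∀ v, V F a (V F a v) = -v := fun v => by rw [← V_mul, s1]; rfl
  have v2 : ∀ v, V F g (V F g v) = -v := fun v => by rw [← V_mul, s2]; rfl
  have v3 : ∀ v, V F b (V F b v) = -v := fun v => by rw [← V_mul, s3]; rfl
  have v4 : ∀ v, V F g (V F a (V F g (V F a v))) = -v := fun v => by rw [← V_mul, ← V_mul, ← V_mul, mul_assoc (g * a), s4]; rfl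
  have v5 : ∀ v, V F a (V F b v) = V F b (V F a v) := fun v => by rw [← V_mul, hab, V_mul]
  have v6 : ∀ v, V F g (V F b v) = V F b (V F g v) := fun v => by rw [← V_mul, hgb, V_mul]
  have v7 : ∀ v, V F g (V F a v) = - V F a (V F g v) := by
    intro v
    have e1 := congrArg (V F g) (v4 (V F a v))
    rw [v2, v1, map_neg, map_neg, map_neg, neg_neg] at e1
    rw [← map_neg, ← map_neg] at e1
    rw [e1]
    simp
  have t1 : ∀ v, V F (a * b) (V F (a * b) v) = v := by
    intro v
    rw [V_mul, V_mul, ← v5, v3, map_neg, map_neg, v1, neg_neg]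
  have t2 : ∀ v, V F g (V F (a * b) v) = - V F (a * b) (V F g v) := by
    intro v
    rw [V_mul, V_mul, v7, v6]
  have key := ev_half h2 (T := V F (a * b)) (G := V F g) t1 v2 t2
  rw [finrank_V] at key
  have hinv : (a * b) * (a * b) = 1 := by
    apply faithful
    refine LinearMap.ext fun v => ?_
    rw [V_mul, t1]
    rfl
  have hne : ad F (a * b) ≠ 1 := by
    rw [map_mul, ha, hb, ← map_mul, ← hP (by decide) (by decide)]
    intro h
    have h3 := hφ (h.trans (map_one φ).symm)
    exact P_ne hn (l := [(0, 1), (2, 3)] ++ [(4, 5), (6, 7)]) (l' := []) (by decide) rfl (by decide) (by rw [h3, P_nil])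
  have h9 := (two h2 hinv hne).1
  omega

/-- **lift** -/
theorem exists_lift8 [Finite F] (hn : 8 ≤ n) (h2 : (2 : F) ≠ 0)
    {φ : ↥(alternatingGroup (Fin n)) →* ↥(chevE7.group F)} (hφ : Function.Injective φ) :
    ∃ ψ : ↥(alternatingGroup (Fin n)) →* Gh F, Lift φ ψ :=
  (exists_lift (by omega) hφ).resolve_right fun h => no_cover hn h2 hφ h.2

end Cfsg.Agent.R2.T1.Odd
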