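import Cfsg.Agent.R2.T1.Inf.Aut
import Cfsg.Agent.R2.T1.Inf.Cov

/-!
# S5771: the preimage of `H` acts on the lift (helper11)

* `hom_eq` : homomorphisms of a perfect group into `Gh F` with the same image in the adjoint group are equal;
* `norm_lift` : `g (ψ a) g⁻¹ = ψ (σ a σ⁻¹)` for `ad F g ∈ H`.
-/

set_option autoImplicit false

namespace Cfsg.Agent.R2.T1.Odd

open Cfsg Cfsg.Lie Module Equiv Equiv.Perm
open Cfsg.Agent.H952.F4 (MaxAlt)
open scoped commutatorElement

universe u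

variable {F : Type u} [Field F]

theorem hom_eq {A : Type*} [Group A] (hA : commutator A = ⊤) {f1 f2 : A →* Gh F} (h : ∀ a, ad F (f1 a) = ad F (f2 a)) :
    ∀ a, f1 a = f2 a := by
  let E : Subgroup A :=
    { carrier := {a | f1 a = f2 a}
      one_mem' := by show f1 1 = f2 1; rw [map_one, map_one]
      mul_mem' := by
        intro a b ha hb
        show f1 (a * b) = f2 (a * b)
        rw [map_mul, map_mul, show f1 a = f2 a from ha, show f1 b = f2 b from hb]
      inv_mem' := by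
        intro a ha
        show f1 a⁻¹ = f2 a⁻¹
        rw [map_inv, map_inv, show f1 a = f2 a from ha] }
  have hz : ∀ a, ad F ((f2 a)⁻¹ * f1 a) = 1 := fun a => by rw [map_mul, map_inv, h, inv_mul_cancel]
  have h1 : commutator A ≤ E := by
    rw [commutator_def, Subgroup.commutator_le]
    intro a _ b _
    show f1 ⁅a, b⁆ = f2 ⁅a, b⁆
    have ea : f1 a = f2 a * ((f2 a)⁻¹ * f1 a) := by rw [mul_inv_cancel_left]
    have eb : f1 b = f2 b * ((f2 b)⁻¹ * f1 b) := by rw [mul_inv_cancel_left]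
    have ca := fun y => ker_comm (hz a) y
    have cb := fun y => ker_comm (hz b) y
    rw [map_commutatorElement, map_commutatorElement, commutatorElement_def, commutatorElement_def, ea, eb]
    generalize (f2 a)⁻¹ * f1 a = za at *
    generalize (f2 b)⁻¹ * f1 b = zb at *
    rw [mul_inv_rev, mul_inv_rev]
    have c1 : ∀ y, za * y = y * za := fun y => (ca y).symm
    have c2 : ∀ y, zb * y = y * zb := fun y => (cb y).symm
    calc f2 a * za * (f2 b * zb) * (za⁻¹ * (f2 a)⁻¹) * (zb⁻¹ * (f2 b)⁻¹)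
        = f2 a * (za * (f2 b * zb * za⁻¹)) * (f2 a)⁻¹ * (zb⁻¹ * (f2 b)⁻¹) := by group
      _ = f2 a * f2 b * (zb * ((f2 a)⁻¹ * zb⁻¹)) * (f2 b)⁻¹ := by rw [c1]; group
      _ = f2 a * f2 b * (f2 a)⁻¹ * (f2 b)⁻¹ := by rw [c2]; group
  intro a
  have h2 : a ∈ E := h1 (by rw [hA]; trivial)
  exact h2

variable [Finite F] {n : ℕ} {H : Subgroup ↥(chevE7.group F)} {φ : ↥(alternatingGroup (Fin n)) →* ↥(chevE7.group F)}
  {ψ : ↥(alternatingGroup (Fin n)) →* Gh F}

theorem norm_lift (hn : 7 ≤ n) (hM : MaxAlt H n φ) (hψ : Lift φ ψ) {g : Gh F} (hg : ad F g ∈ H) :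
    ∃ σ : Perm (Fin n), ∀ a b : ↥(alternatingGroup (Fin n)), (b : Perm (Fin n)) = σ * a * σ⁻¹ → g * ψ a * g⁻¹ = ψ b := by
  obtain ⟨σ, hσ⟩ := exists_perm hn hM hg
  refine ⟨σ, ?_⟩
  have hmem : ∀ a : ↥(alternatingGroup (Fin n)), σ * a * σ⁻¹ ∈ alternatingGroup (Fin n) := by
    intro a
    rw [mem_alternatingGroup, Perm.sign_mul, Perm.sign_mul, Perm.sign_inv, mem_alternatingGroup.1 a.2, mul_one]
    exact Int.units_mul_self _
  let e : ↥(alternatingGroup (Fin n)) →* ↥(alternatingGroup (Fin n)) :=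
    MonoidHom.mk' (fun a => ⟨σ * a * σ⁻¹, hmem a⟩) fun a b => by
      apply Subtype.ext
      show σ * (a * b : Perm (Fin n)) * σ⁻¹ = (σ * a * σ⁻¹) * (σ * b * σ⁻¹)
      group
  have h1 := hom_eq (alt_perfect (by omega)) (f1 := (MulAut.conj g).toMonoidHom.comp ψ) (f2 := ψ.comp e) (by
    intro a
    show ad F (g * ψ a * g⁻¹) = ad F (ψ (e a))
    rw [map_mul, map_mul, map_inv, hψ, hψ]
    exact hσ a (e a) rfl)
  intro a b hb
  have h2 : b = e a := Subtype.ext hb
  rw [h2]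
  exact h1 a

end Cfsg.Agent.R2.T1.Odd
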