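import Cfsg.Agent.R2.T1.Odd.Tab

/-!
# S5771, ODD5: tables of cosets of `Q` (helper11)
-/

set_option autoImplicit false
set_option maxRecDepth 100000

namespace Cfsg.Agent.R2.T1.Odd

/-- representatives of the classes: `1`, `2²`, `2⁴`, `42`, `44`, `3`, `33`, `322`, `62`, `5` -/
def r10 : List (List (ℕ × ℕ)) :=
  [[], [(0, 1), (2, 3)], [(0, 1), (2, 3), (4, 5), (6, 7)], [(0, 1), (1, 2), (2, 3), (4, 5)], [(0, 1), (1, 2), (2, 3), (4, 5), (5, 6), (6, 7)], [(0, 1), (1, 2)], [(0, 1), (1, 2), (4, 5), (5, 6)], [(0, 1), (1, 2), (3, 4), (5, 6)], [(0, 1), (1, 2), (2, 3), (3, 4), (4, 5), (6, 7)], [(0, 1), (1, 2), (2, 3), (3, 4)]]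

def dQY : List (ℕ × List (ℕ × ℕ)) :=
  [(5, []), (5, [(0, 1), (1, 3)]), (5, [(1, 3), (3, 2)]), (7, [(3, 4), (4, 5), (5, 6), (6, 7)]), (7, [(3, 7), (4,
   5)]), (5, [(1, 2), (2, 3)]), (7, [(0, 1), (1, 3), (3, 4), (4, 5), (5, 6), (6, 7)]), (7, [(0, 3), (3, 6), (6, 7),
   (1, 2)]), (7, [(1, 3), (3, 4), (4, 5), (5, 6), (6, 7), (7, 2)]), (7, [(0, 1), (2, 3), (3, 6), (6, 7)]), (7, [(3,
   4), (4, 7)]), (7, [(1, 2), (2, 3), (3, 4), (4, 5), (5, 6), (6, 7)]), (7, [(0, 2), (1, 3), (3, 7), (4, 5)]), (7,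
   [(0, 1), (1, 3), (3, 4), (4, 7)]), (7, [(1, 3), (3, 4), (4, 7), (7, 2)]), (7, [(1, 2), (2, 3), (3, 4), (4, 7)])]

def dQYY : List (ℕ × List (ℕ × ℕ)) :=
  [(6, []), (6, [(0, 1), (1, 3)]), (6, [(1, 3), (3, 2)]), (6, [(4, 5), (5, 7)]), (6, [(5, 7), (7, 6)]), (6, [(1,
   2), (2, 3)]), (6, [(0, 1), (1, 3), (4, 5), (5, 7)]), (6, [(0, 1), (1, 3), (5, 7), (7, 6)]), (6, [(1, 3), (3, 2),
   (4, 5), (5, 7)]), (6, [(1, 3), (3, 2), (5, 7), (7, 6)]), (6, [(5, 6), (6, 7)]), (6, [(1, 2), (2, 3), (4, 5), (5,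
   7)]), (6, [(1, 2), (2, 3), (5, 7), (7, 6)]), (6, [(0, 1), (1, 3), (5, 6), (6, 7)]), (6, [(1, 3), (3, 2), (5, 6),
   (6, 7)]), (6, [(1, 2), (2, 3), (5, 6), (6, 7)])]

def dQG1 : List (ℕ × List (ℕ × ℕ)) :=
  [(1, [(2, 3), (3, 4)]), (5, [(0, 2), (2, 4), (4, 1), (1, 3)]), (9, [(1, 3), (2, 4)]), (7, [(0, 3), (1, 5), (5,
   6), (6, 7), (7, 2), (2, 4)]), (7, [(0, 6), (6, 5), (5, 7), (7, 2), (2, 3), (1, 4)]), (9, [(0, 2), (2, 3), (3,
   4), (6, 7)]), (3, [(0, 3), (3, 2), (2, 4), (4, 7), (1, 5), (5, 6)]), (3, [(0, 2), (2, 6), (1, 3), (3, 4), (4,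
   5), (5, 7)]), (8, [(0, 5), (5, 3), (3, 2), (2, 1), (1, 4), (6, 7)]), (8, [(1, 3), (3, 4), (2, 6), (6, 5)]), (7,
   [(0, 3), (1, 7), (7, 2), (2, 4)]), (8, [(1, 2), (4, 5)]), (8, [(0, 6), (6, 7), (7, 5), (5, 3), (3, 2), (1, 4)]),
   (3, [(0, 4), (4, 5), (5, 6), (1, 2), (2, 3), (3, 7)]), (8, [(0, 4), (4, 3), (5, 7), (7, 6)]), (8, [(1, 2), (4,
   7), (7, 6), (6, 5)])]

def dQG2 : List (ℕ × List (ℕ × ℕ)) :=
  [(1, [(0, 3), (3, 2), (2, 4), (4, 7), (1, 5), (5, 6)]), (3, [(0, 5), (1, 2), (2, 4), (6, 7)]), (6, [(1, 2), (2,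
   4), (3, 6), (6, 5)]), (3, [(0, 2), (2, 3), (3, 4), (4, 6), (1, 5), (5, 7)]), (6, [(0, 2), (2, 4), (4, 3), (1,
   6), (6, 5), (5, 7)]), (6, [(1, 3), (3, 6), (6, 4), (2, 5)]), (2, [(3, 5), (5, 4)]), (8, [(0, 6), (1, 4), (4, 5),
   (5, 2), (2, 3), (3, 7)]), (8, [(1, 2), (2, 5), (5, 4), (4, 3)]), (4, [(1, 2), (2, 6), (6, 7), (7, 5), (5, 3),
   (3, 4)]), (6, [(0, 3), (1, 6), (6, 7), (2, 5)]), (8, [(1, 3), (2, 4)]), (4, [(0, 1), (1, 2), (2, 6), (6, 3), (3,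
   4), (4, 5)]), (8, [(0, 2), (2, 4), (4, 6), (1, 7)]), (4, [(0, 6), (6, 4), (4, 2), (2, 1), (1, 5), (5, 7)]), (4,
   [(1, 3), (3, 5), (5, 2), (2, 6), (6, 7), (7, 4)])]

def gCt : List (List (ℕ × ℕ)) :=
  [[(0, 1), (2, 3)]]

def eCt : List (List ℕ) :=
  [[], [0]]

def dCt : List (ℕ × List (ℕ × ℕ)) :=
  [(0, []), (1, [])]

def gCs : List (List (ℕ × ℕ)) :=
  [[(0, 1), (2, 3), (4, 5), (6, 7)]]

def eCs : List (List ℕ) :=
  [[], [0]]

def dCs : List (ℕ × List (ℕ × ℕ)) :=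
  [(0, []), (2, [])]

def gC42 : List (List (ℕ × ℕ)) :=
  [[(0, 1), (1, 2), (2, 3), (4, 5)]]

def eC42 : List (List ℕ) :=
  [[], [0], [0, 0], [0, 0, 0]]

def dC42 : List (ℕ × List (ℕ × ℕ)) :=
  [(0, []), (3, []), (1, [(1, 2), (4, 7), (7, 6), (6, 5)]), (3, [(0, 2), (4, 5)])]

def gC44 : List (List (ℕ × ℕ)) :=
  [[(0, 1), (1, 2), (2, 3), (4, 5), (5, 6), (6, 7)]]

def eC44 : List (List ℕ) :=
  [[], [0], [0, 0], [0, 0, 0]]

def dC44 : List (ℕ × List (ℕ × ℕ)) :=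
  [(0, []), (4, []), (2, [(1, 2), (5, 6)]), (4, [(1, 3), (5, 7)])]

def gC5 : List (List (ℕ × ℕ)) :=
  [[(0, 1), (1, 2), (2, 3), (3, 4)]]

def eC5 : List (List ℕ) :=
  [[], [0], [0, 0], [0, 0, 0], [0, 0, 0, 0]]

def dC5 : List (ℕ × List (ℕ × ℕ)) :=
  [(0, []), (9, []), (9, [(0, 1), (1, 3), (3, 2), (5, 7)]), (9, [(0, 4), (4, 1), (1, 2), (5, 7)]), (9, [(1, 4), (2,
   3)])]

theorem chkC_QY : chkC 8 gQ eQ [(0, 1), (1, 2)] r10 dQY = true := by decide +kernel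

theorem cnt_QY : (List.range 10).map (fun k => (dQY.map Prod.fst).count k) = [0, 0, 0, 0, 0, 4, 0, 12, 0, 0] := by decide +kernel

theorem chkC_QYY : chkC 8 gQ eQ [(0, 1), (1, 2), (4, 5), (5, 6)] r10 dQYY = true := by decide +kernel

theorem cnt_QYY : (List.range 10).map (fun k => (dQYY.map Prod.fst).count k) = [0, 0, 0, 0, 0, 0, 16, 0, 0, 0] := by decide +kernel

theorem chkC_QG1 : chkC 8 gQ eQ [(0, 1), (3, 4)] r10 dQG1 = true := by decide +kernel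

theorem cnt_QG1 : (List.range 10).map (fun k => (dQG1.map Prod.fst).count k) = [0, 1, 0, 3, 0, 1, 0, 3, 6, 2] := by decide +kernel

theorem chkC_QG2 : chkC 8 gQ eQ [(2, 4), (3, 5)] r10 dQG2 = true := by decide +kernel

theorem cnt_QG2 : (List.range 10).map (fun k => (dQG2.map Prod.fst).count k) = [0, 1, 1, 2, 4, 0, 4, 0, 4, 0] := by decide +kernel

theorem chkG_Ct : chkG 8 gCt eCt = true := by decide +kernel

theorem chkC_Ct : chkC 8 gCt eCt [] r10 dCt = true := by decide +kernel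

theorem len_Ct : eCt.length = 2 := by decide

theorem cnt_Ct : (List.range 10).map (fun k => (dCt.map Prod.fst).count k) = [1, 1, 0, 0, 0, 0, 0, 0, 0, 0] := by decide +kernel

theorem chkG_Cs : chkG 8 gCs eCs = true := by decide +kernel

theorem chkC_Cs : chkC 8 gCs eCs [] r10 dCs = true := by decide +kernel

theorem len_Cs : eCs.length = 2 := by decide

theorem cnt_Cs : (List.range 10).map (fun k => (dCs.map Prod.fst).count k) = [1, 0, 1, 0, 0, 0, 0, 0, 0, 0] := by decide +kernel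

theorem chkG_C42 : chkG 8 gC42 eC42 = true := by decide +kernel

theorem chkC_C42 : chkC 8 gC42 eC42 [] r10 dC42 = true := by decide +kernel

theorem len_C42 : eC42.length = 4 := by decide

theorem cnt_C42 : (List.range 10).map (fun k => (dC42.map Prod.fst).count k) = [1, 1, 0, 2, 0, 0, 0, 0, 0, 0] := by decide +kernel

theorem chkG_C44 : chkG 8 gC44 eC44 = true := by decide +kernel

theorem chkC_C44 : chkC 8 gC44 eC44 [] r10 dC44 = true := by decide +kernel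

theorem len_C44 : eC44.length = 4 := by decide

theorem cnt_C44 : (List.range 10).map (fun k => (dC44.map Prod.fst).count k) = [1, 0, 1, 0, 2, 0, 0, 0, 0, 0] := by decide +kernel

theorem chkG_C5 : chkG 8 gC5 eC5 = true := by decide +kernel

theorem chkC_C5 : chkC 8 gC5 eC5 [] r10 dC5 = true := by decide +kernel

theorem len_C5 : eC5.length = 5 := by decide

theorem cnt_C5 : (List.range 10).map (fun k => (dC5.map Prod.fst).count k) = [1, 0, 0, 0, 0, 0, 0, 0, 0, 4] := by decide +kernel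

end Cfsg.Agent.R2.T1.Odd
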