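import Cfsg.Agent.R2.T1.Odd.U
import Cfsg.Agent.R2.T1.Odd.Tab2

/-!
# S5771, ODD5: the operator `E = Σ_{k ∈ Q} ρ(k)` on `U = V^Q` (helper11)

* `trT`, `tr_EE` : traces over explicit subgroups and cosets;
* `EE` : the operator, `EE_mem`, `EE_U`, `EE_left`, `EE_right`, `EE_adj`;
* `scal` : `E ρ(h)` is a scalar on `U` for `h² = 1`; `tr_scal` : its trace is `2 c`.
-/

set_option autoImplicit false
set_option maxRecDepth 100000

namespace Cfsg.Agent.R2.T1.Odd

open Cfsg Cfsg.Lie Module Equiv Equiv.Perm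
open Cfsg.Agent.H952.F4 (ev es)

universe u v

/-! ### traces -/

section trace
variable {n m : ℕ} [NeZero n] {gens : List (List (ℕ × ℕ))} {els : List (List ℕ)}
  {F : Type u} [Field F] {W : Type v} [AddCommGroup W] [Module F W]

noncomputable instance instTg (gens : List (List (ℕ × ℕ))) : Fintype ↥(Tg n gens) := Fintype.ofFinite _

theorem tr_conj {X : Type*} [Group X] (ρ : Representation F X W) (g x : X) :
    LinearMap.trace F W (ρ (g * x * g⁻¹)) = LinearMap.trace F W (ρ x) := by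
  have h1 : ρ (g * x * g⁻¹) = ρ g * ρ x * ρ g⁻¹ := by rw [map_mul ρ, map_mul ρ]
  have h2 : ρ g⁻¹ * (ρ g * ρ x) = ρ x := by rw [← mul_assoc, ← map_mul ρ, inv_mul_cancel, map_one, one_mul]
  rw [h1, LinearMap.trace_mul_comm, h2]

theorem cntc {dat : List (ℕ × List (ℕ × ℕ))} {K : ℕ} {c : List ℕ}
    (hc : (List.range K).map (fun k => (dat.map Prod.fst).count k) = c) {k : ℕ} (hk : k ∈ Finset.range K) :
    c.getD k 0 = (dat.map Prod.fst).count k := by
  have h2 : k < ((List.range K).map (fun k => (dat.map Prod.fst).count k)).length := by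
    rw [List.length_map, List.length_range]
    exact Finset.mem_range.1 hk
  rw [← hc, List.getD_eq_getElem _ _ h2, List.getElem_map, List.getElem_range]

/-- traces over a subgroup -/
theorem trT [FiniteDimensional F W] (hm : m ≤ n) (h : chkG m gens els = true) {reps : List (List (ℕ × ℕ))}
    {dat : List (ℕ × List (ℕ × ℕ))} (hC : chkC m gens els [] reps dat = true) {N K : ℕ} (hN : els.length = N)
    (hK : reps.length = K) (hF : (N : F) ≠ 0)
    {c : List ℕ} (hc : (List.range K).map (fun k => (dat.map Prod.fst).count k) = c)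
    (ρ : Representation F ↥(alternatingGroup (Fin n)) W) :
    (N : F) * (finrank F ↥(inv ρ (Tg n gens)) : F) =
      ∑ k ∈ Finset.range K, (c.getD k 0 : F) * LinearMap.trace F W (ρ (P n (reps.getD k []))) := by
  subst hN hK
  have h1 := Art.sum_trace (T := ↥(Tg n gens)) (by rw [card_Tg hm h]; exact hF) (MonoidHom.comp ρ (Tg n gens).subtype)
  rw [card_Tg hm h, ← inv_eq_invariants] at h1
  rw [← h1]
  have h2 : ∀ x : ↥(Tg n gens), LinearMap.trace F W ((MonoidHom.comp ρ (Tg n gens).subtype : ↥(Tg n gens) →* Module.End F W) x) =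
      (fun y => LinearMap.trace F W (ρ y)) ((x : ↥(alternatingGroup (Fin n))) * P n []) := by
    intro x
    rw [P_nil, mul_one]
    rfl
  rw [Finset.sum_congr rfl fun x _ => h2 x, sum_cls hm h hC (fun y => LinearMap.trace F W (ρ y)) (tr_conj ρ)]
  refine Finset.sum_congr rfl fun k hk => ?_
  rw [nsmul_eq_mul, cntc hc hk]

/-- the fixed points of a cyclic group -/
theorem inv1 (ρ : Representation F ↥(alternatingGroup (Fin n)) W) (l : List (ℕ × ℕ)) :
    finrank F ↥(inv ρ (Tg n [l])) = ev (ρ (P n l)) 1 := by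
  unfold ev
  have h1 : inv ρ (Tg n [l]) = Module.End.eigenspace (ρ (P n l)) 1 := by
    ext v
    rw [mem_U, Module.End.mem_eigenspace_iff, one_smul]
    simp
  rw [h1]

end trace

/-! ### the operator -/

section E
variable {n : ℕ} [NeZero n] {F : Type u} [Field F] {W : Type v} [AddCommGroup W] [Module F W]
  (ρ : Representation F ↥(alternatingGroup (Fin n)) W) {B : W →ₗ[F] W →ₗ[F] F}

/-- `E = Σ_{k ∈ Q} ρ(k)` -/
noncomputable def EE : Module.End F W := ∑ k : ↥(Tg n gQ), ρ (k : ↥(alternatingGroup (Fin n)))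

variable {ρ}

theorem EE_apply (w : W) : EE ρ w = ∑ k : ↥(Tg n gQ), ρ (k : ↥(alternatingGroup (Fin n))) w := by
  rw [EE, LinearMap.sum_apply]

theorem EE_left {k : ↥(alternatingGroup (Fin n))} (hk : k ∈ Tg n gQ) (w : W) : ρ k (EE ρ w) = EE ρ w := by
  rw [EE_apply, map_sum]
  refine Fintype.sum_equiv (Equiv.mulLeft (⟨k, hk⟩ : ↥(Tg n gQ))) _ _ fun x => ?_
  rw [← ρ_mul]
  rfl

theorem EE_right {k : ↥(alternatingGroup (Fin n))} (hk : k ∈ Tg n gQ) (w : W) : EE ρ (ρ k w) = EE ρ w := by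
  rw [EE_apply, EE_apply]
  refine Fintype.sum_equiv (Equiv.mulRight (⟨k, hk⟩ : ↥(Tg n gQ))) _ _ fun x => ?_
  rw [← ρ_mul]
  rfl

theorem EE_mem (w : W) : EE ρ w ∈ inv ρ (Tg n gQ) := fun _ hk => EE_left hk w

theorem EE_U (hn : 8 ≤ n) {u : W} (hu : u ∈ inv ρ (Tg n gQ)) : EE ρ u = (16 : F) • u := by
  rw [EE_apply, Finset.sum_congr rfl fun k _ => hu _ k.2, Finset.sum_const, Finset.card_univ, card_Tg hn chkG_Q, len_Q,
    ← Nat.cast_smul_eq_nsmul F]
  norm_num

theorem B_move (hB : ∀ g x y, B (ρ g x) (ρ g y) = B x y) (g : ↥(alternatingGroup (Fin n))) (x y : W) :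
    B (ρ g x) y = B x (ρ g⁻¹ y) := by
  rw [← hB g x (ρ g⁻¹ y), ρ_inv']

theorem EE_adj (hB : ∀ g x y, B (ρ g x) (ρ g y) = B x y) (x y : W) : B (EE ρ x) y = B x (EE ρ y) := by
  rw [EE_apply, EE_apply, map_sum, LinearMap.sum_apply, map_sum]
  refine Fintype.sum_equiv (Equiv.inv ↥(Tg n gQ)) _ _ fun k => ?_
  rw [B_move hB]
  rfl

/-- self-adjoint operators on a symplectic plane are scalars -/
theorem two_scal {U : Submodule F W} (hU : finrank F ↥U = 2) (h2 : (2 : F) ≠ 0) (hskew : ∀ x y, B x y = - B y x)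
    (hnd : ∀ u ∈ U, (∀ v ∈ U, B u v = 0) → u = 0) {T : W → W} (hadd : ∀ x y, T (x + y) = T x + T y)
    (hsmul : ∀ (c : F) x, T (c • x) = c • T x) (hT : ∀ u ∈ U, T u ∈ U)
    (hadj : ∀ u ∈ U, ∀ v ∈ U, B (T u) v = B u (T v)) : ∃ c : F, ∀ u ∈ U, T u = c • u := by
  have hBB : ∀ x, B x x = 0 := by
    intro x
    have h1 := hskew x x
    have h3 : (2 : F) * B x x = 0 := by linear_combination h1
    exact (mul_eq_zero.1 h3).resolve_left h2
  have hTu : ∀ u ∈ U, B (T u) u = 0 := by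
    intro u hu
    have h1 := hadj u hu u hu
    have h3 := hskew u (T u)
    have h4 : (2 : F) * B (T u) u = 0 := by linear_combination h1 + h3
    exact (mul_eq_zero.1 h4).resolve_left h2
  have hfd : FiniteDimensional F ↥U := Module.finite_of_finrank_pos (by omega)
  let b := Module.finBasisOfFinrankEq F ↥U hU
  have hspan : ∀ u ∈ U, ∃ x y : F, u = x • (b 0 : W) + y • (b 1 : W) := by
    intro u hu
    refine ⟨b.repr ⟨u, hu⟩ 0, b.repr ⟨u, hu⟩ 1, ?_⟩
    have h1 := congrArg (Subtype.val) (b.sum_repr ⟨u, hu⟩)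
    rw [Fin.sum_univ_two] at h1
    exact h1.symm
  have hb0 : (b 0 : W) ≠ 0 := by
    intro h
    exact b.ne_zero 0 (Subtype.ext h)
  have h01 : B (b 0) (b 1) ≠ 0 := by
    intro h
    apply hb0
    apply hnd _ (b 0).2
    intro v hv
    obtain ⟨x, y, rfl⟩ := hspan v hv
    rw [map_add, map_smul, map_smul, hBB, h, smul_zero, smul_zero, add_zero]
  have h10 : B (b 1) (b 0) ≠ 0 := by rw [hskew]; exact _root_.neg_ne_zero.2 h01
  obtain ⟨a, c, h1⟩ := hspan _ (hT _ (b 0).2)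
  obtain ⟨d, e, h3⟩ := hspan _ (hT _ (b 1).2)
  have hc : c = 0 := by
    have h4 := hTu _ (b 0).2
    rw [h1, map_add, map_smul, map_smul, LinearMap.add_apply, LinearMap.smul_apply, LinearMap.smul_apply, hBB, smul_zero,
      zero_add, smul_eq_mul] at h4
    exact (mul_eq_zero.1 h4).resolve_right h10
  have hd : d = 0 := by
    have h4 := hTu _ (b 1).2
    rw [h3, map_add, map_smul, map_smul, LinearMap.add_apply, LinearMap.smul_apply, LinearMap.smul_apply, hBB, smul_zero,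
      add_zero, smul_eq_mul] at h4
    exact (mul_eq_zero.1 h4).resolve_right h01
  rw [hc, zero_smul, add_zero] at h1
  rw [hd, zero_smul, zero_add] at h3
  have hae : a = e := by
    have h4 := hadj _ (b 0).2 _ (b 1).2
    rw [h1, h3, map_smul, LinearMap.smul_apply, map_smul, smul_eq_mul, smul_eq_mul] at h4
    exact mul_right_cancel₀ h01 h4
  refine ⟨a, fun u hu => ?_⟩
  obtain ⟨x, y, rfl⟩ := hspan u hu
  rw [hadd, hsmul, hsmul, h1, h3, ← hae, smul_add, smul_smul, smul_smul, smul_smul, smul_smul, mul_comm a x, mul_comm a y]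

theorem sixteen_ne (h2 : (2 : F) ≠ 0) : (16 : F) ≠ 0 := by
  have : (16 : F) = 2 ^ 4 := by norm_num
  rw [this]
  exact pow_ne_zero 4 h2

/-- `B` is nondegenerate on `U` -/
theorem nd_U (hn : 8 ≤ n) (hC : CfgU ρ B) : ∀ u ∈ inv ρ (Tg n gQ), (∀ v ∈ inv ρ (Tg n gQ), B u v = 0) → u = 0 := by
  intro u hu h
  apply hC.nd
  intro y
  have h1 : B (EE ρ u) y = 0 := by rw [EE_adj hC.isom, h _ (EE_mem y)]
  rw [EE_U hn hu, map_smul, LinearMap.smul_apply, smul_eq_mul] at h1
  exact (mul_eq_zero.1 h1).resolve_left (sixteen_ne hC.two)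

/-- **`E ρ(h)` is a scalar on `U` for every involution `h`** -/
theorem scal (hn : 8 ≤ n) (hC : CfgU ρ B) {h : ↥(alternatingGroup (Fin n))} (hh : h⁻¹ = h) :
    ∃ c : F, ∀ u ∈ inv ρ (Tg n gQ), EE ρ (ρ h u) = c • u := by
  refine two_scal (B := B) (T := fun u => EE ρ (ρ h u)) hC.dim hC.two hC.skew (nd_U hn hC)
    (fun x y => by rw [map_add, map_add]) (fun c x => by rw [map_smul, map_smul]) (fun u _ => EE_mem _) ?_
  intro u hu v hv
  show B (EE ρ (ρ h u)) v = B u (EE ρ (ρ h v))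
  rw [EE_adj hC.isom, EE_U hn hv, map_smul, B_move hC.isom, hh, ← EE_adj hC.isom, EE_U hn hu, map_smul,
    LinearMap.smul_apply]

theorem tr_EE (hn : 8 ≤ n) {r : List (ℕ × ℕ)} {reps : List (List (ℕ × ℕ))} {dat : List (ℕ × List (ℕ × ℕ))}
    (hC : chkC 8 gQ eQ r reps dat = true) {K : ℕ} (hK : reps.length = K)
    {c : List ℕ} (hc : (List.range K).map (fun k => (dat.map Prod.fst).count k) = c) :
    LinearMap.trace F W (EE ρ * ρ (P n r)) =
      ∑ k ∈ Finset.range K, (c.getD k 0 : F) * LinearMap.trace F W (ρ (P n (reps.getD k []))) := by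
  subst hK
  have h1 := sum_cls hn chkG_Q hC (fun y => LinearMap.trace F W (ρ y)) (tr_conj ρ)
  rw [EE, Finset.sum_mul, map_sum]
  have h2 : ∀ k : ↥(Tg n gQ), LinearMap.trace F W (ρ (k : ↥(alternatingGroup (Fin n))) * ρ (P n r)) =
      LinearMap.trace F W (ρ ((k : ↥(alternatingGroup (Fin n))) * P n r)) := fun k => by rw [map_mul ρ]
  rw [Finset.sum_congr rfl fun k _ => h2 k, h1]
  refine Finset.sum_congr rfl fun k hk => ?_
  rw [nsmul_eq_mul, cntc hc hk]

theorem tr_E [FiniteDimensional F W] (hn : 8 ≤ n) (hC : CfgU ρ B) : LinearMap.trace F W (EE ρ) = 32 := by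
  have h1 := Art.sum_trace (T := ↥(Tg n gQ)) (by rw [card_Tg hn chkG_Q, len_Q]; exact_mod_cast sixteen_ne hC.two)
    (MonoidHom.comp ρ (Tg n gQ).subtype)
  rw [card_Tg hn chkG_Q, ← inv_eq_invariants, hC.dim, len_Q] at h1
  rw [EE, map_sum]
  have h2 : ∑ k : ↥(Tg n gQ), LinearMap.trace F W (ρ (k : ↥(alternatingGroup (Fin n)))) = ((16 : ℕ) : F) * ((2 : ℕ) : F) := h1
  rw [h2]
  norm_num

/-- the trace of `E ρ(x)` -/
theorem tr_scal [FiniteDimensional F W] (hn : 8 ≤ n) (hC : CfgU ρ B) {x : ↥(alternatingGroup (Fin n))} {c : F}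
    (hc : ∀ u ∈ inv ρ (Tg n gQ), EE ρ (ρ x u) = c • u) : LinearMap.trace F W (EE ρ * ρ x) = 2 * c := by
  have h1 : EE ρ * (EE ρ * ρ x) = (16 : F) • (EE ρ * ρ x) := by
    ext w
    exact EE_U hn (EE_mem _)
  have h2 : (EE ρ * ρ x) * EE ρ = c • EE ρ := by
    ext w
    exact hc _ (EE_mem w)
  have h3 : (16 : F) * LinearMap.trace F W (EE ρ * ρ x) = c * 32 := by
    rw [← smul_eq_mul, ← map_smul, ← h1, LinearMap.trace_mul_comm, h2, map_smul, tr_E hn hC, smul_eq_mul]
  have h4 : (16 : F) * (LinearMap.trace F W (EE ρ * ρ x) - 2 * c) = 0 := by linear_combination h3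
  exact sub_eq_zero.1 ((mul_eq_zero.1 h4).resolve_left (sixteen_ne hC.two))

end E

end Cfsg.Agent.R2.T1.Odd
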