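import Cfsg.Agent.R2.T1.Odd.Perm

/-!
# S5771, ODD5: tables of subgroups of `A_8` (helper11)

`Q = V₄ × V₄` (order 16), `Qs = Q⟨(04)(15)(26)(37)⟩`, `Qj = Q⟨(01)(45)⟩` (order 32), `A4`, `S4` (acting on `{0,1,2,3}` and
`{4,5}`), `Qy = Q⟨(012)(456)⟩` (order 48), `K` (order 16).
-/

set_option autoImplicit false
set_option maxRecDepth 100000

namespace Cfsg.Agent.R2.T1.Odd

/-- representatives of the classes: `1`, `2²`, `2⁴`, `42`, `44`, `3`, `33` -/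
def r8 : List (List (ℕ × ℕ)) :=
  [[], [(0, 1), (2, 3)], [(0, 1), (2, 3), (4, 5), (6, 7)], [(0, 1), (1, 2), (2, 3), (4, 5)], [(0, 1), (1, 2), (2,
   3), (4, 5), (5, 6), (6, 7)], [(0, 1), (1, 2)], [(0, 1), (1, 2), (4, 5), (5, 6)]]

def gQ : List (List (ℕ × ℕ)) :=
  [[(0, 1), (2, 3)], [(0, 2), (1, 3)], [(4, 5), (6, 7)], [(4, 6), (5, 7)]]

def eQ : List (List ℕ) :=
  [[], [0], [1], [2], [3], [1, 0], [2, 0], [3, 0], [2, 1], [3, 1], [3, 2], [2, 1, 0], [3, 1, 0], [3, 2, 0], [3, 2,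
   1], [3, 2, 1, 0]]

def dQ : List (ℕ × List (ℕ × ℕ)) :=
  [(0, []), (1, []), (1, [(0, 1), (1, 3), (4, 7), (5, 6)]), (1, [(0, 4), (1, 5), (2, 6), (3, 7)]), (1, [(0, 7), (7,
   1), (1, 5), (2, 6), (6, 3), (3, 4)]), (1, [(1, 3), (3, 2)]), (2, []), (2, [(0, 6), (6, 1), (1, 4), (4, 2), (2,
   7), (3, 5)]), (2, [(0, 3), (3, 2), (4, 5), (6, 7)]), (2, [(1, 2), (5, 6)]), (1, [(0, 4), (1, 7), (7, 3), (3, 6),
   (6, 2), (2, 5)]), (2, [(1, 3), (3, 2)]), (2, [(0, 5), (5, 3), (3, 6), (6, 2), (2, 4), (1, 7)]), (2, [(5, 7), (7,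
   6)]), (2, [(0, 2), (2, 3), (3, 1), (4, 5), (5, 6), (6, 7)]), (2, [(1, 3), (3, 2), (5, 7), (7, 6)])]

def gQs : List (List (ℕ × ℕ)) :=
  [[(0, 1), (2, 3)], [(0, 2), (1, 3)], [(4, 5), (6, 7)], [(4, 6), (5, 7)], [(0, 4), (1, 5), (2, 6), (3, 7)]]

def eQs : List (List ℕ) :=
  [[], [0], [1], [2], [3], [4], [1, 0], [2, 0], [3, 0], [4, 0], [2, 1], [3, 1], [4, 1], [3, 2], [4, 2], [4, 3], [2,
   1, 0], [3, 1, 0], [4, 1, 0], [3, 2, 0], [4, 2, 0], [4, 3, 0], [3, 2, 1], [4, 2, 1], [4, 3, 1], [4, 3, 2], [3, 2,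
   1, 0], [4, 2, 1, 0], [4, 3, 1, 0], [4, 3, 2, 0], [4, 3, 2, 1], [4, 3, 2, 1, 0]]

def dQs : List (ℕ × List (ℕ × ℕ)) :=
  [(0, []), (1, []), (1, [(0, 1), (1, 3), (4, 7), (5, 6)]), (1, [(0, 4), (1, 5), (2, 6), (3, 7)]), (1, [(0, 6), (6,
   2), (2, 7), (1, 4), (4, 3), (3, 5)]), (2, [(1, 4), (4, 2), (3, 5), (5, 6)]), (1, [(1, 3), (3, 2)]), (2, []), (2,
   [(0, 6), (6, 1), (1, 4), (4, 7)]), (4, [(1, 5), (5, 7), (7, 6), (6, 3), (3, 4), (4, 2)]), (2, [(0, 6), (6, 1),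
   (1, 7), (7, 3), (3, 4), (2, 5)]), (2, [(1, 2), (5, 6)]), (4, [(1, 6), (6, 3), (3, 4), (5, 7)]), (1, [(0, 4), (1,
   7), (7, 3), (3, 6), (6, 2), (2, 5)]), (4, [(1, 4), (4, 2), (3, 5), (5, 6)]), (4, [(1, 4), (3, 6)]), (2, [(1, 3),
   (3, 2)]), (2, [(0, 4), (4, 3), (3, 2), (2, 1), (1, 6), (6, 5)]), (4, [(1, 7), (7, 5), (5, 6), (6, 2), (2, 3),
   (3, 4)]), (2, [(5, 7), (7, 6)]), (2, [(1, 5), (5, 7), (7, 6), (6, 3), (3, 4), (4, 2)]), (4, [(1, 5), (5, 4), (2,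
   3), (3, 6)]), (2, [(0, 7), (7, 5), (5, 2), (2, 3), (3, 1), (1, 4)]), (4, [(1, 6), (6, 2), (2, 3), (3, 5), (5,
   7), (7, 4)]), (2, [(1, 6), (6, 3), (3, 7), (7, 5), (5, 4), (4, 2)]), (4, [(1, 4), (2, 3), (3, 7), (7, 6)]), (2,
   [(1, 3), (3, 2), (5, 7), (7, 6)]), (4, [(1, 7), (7, 4), (3, 5), (5, 6)]), (4, [(1, 7), (7, 4), (4, 2), (3, 6)]),
   (4, [(1, 5), (5, 4), (3, 7), (7, 6)]), (4, [(1, 6), (6, 3), (3, 7), (7, 5), (5, 4), (4, 2)]), (2, [(1, 7), (7,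
   4), (4, 2), (3, 6)])]

def gQj : List (List (ℕ × ℕ)) :=
  [[(0, 1), (2, 3)], [(0, 2), (1, 3)], [(4, 5), (6, 7)], [(4, 6), (5, 7)], [(0, 1), (4, 5)]]

def eQj : List (List ℕ) :=
  [[], [0], [1], [2], [3], [4], [1, 0], [2, 0], [3, 0], [4, 0], [2, 1], [3, 1], [4, 1], [3, 2], [4, 2], [4, 3], [1,
   4], [3, 4], [2, 1, 0], [3, 1, 0], [3, 2, 0], [4, 2, 0], [4, 3, 0], [3, 4, 0], [3, 2, 1], [4, 2, 1], [4, 3, 1],
   [3, 4, 1], [1, 4, 2], [1, 4, 3], [3, 1, 4], [3, 2, 1, 0]]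

def dQj : List (ℕ × List (ℕ × ℕ)) :=
  [(0, []), (1, []), (1, [(0, 2), (2, 1), (4, 6), (5, 7)]), (1, [(0, 4), (1, 5), (2, 6), (3, 7)]), (1, [(0, 7), (7,
   3), (3, 6), (1, 5), (5, 2), (2, 4)]), (1, [(2, 4), (3, 5)]), (1, [(1, 3), (3, 2)]), (2, []), (2, [(0, 7), (7,
   3), (1, 5), (5, 4), (4, 6), (6, 2)]), (1, [(0, 2), (2, 4), (1, 3), (3, 5)]), (2, [(0, 4), (4, 1), (1, 5), (5,
   3)]), (2, [(1, 2), (5, 6)]), (3, [(0, 2), (2, 3), (4, 5), (6, 7)]), (1, [(0, 4), (1, 7), (7, 3), (3, 6), (6, 2),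
   (2, 5)]), (1, [(2, 6), (6, 4), (3, 7), (7, 5)]), (3, [(0, 4), (4, 1), (1, 6), (6, 2), (2, 5), (3, 7)]), (3, [(1,
   3), (3, 2)]), (3, [(0, 4), (1, 7), (7, 3), (3, 6), (6, 2), (2, 5)]), (2, [(1, 3), (3, 2)]), (2, [(0, 1), (1, 2),
   (2, 4), (4, 7), (7, 3), (3, 6)]), (2, [(5, 7), (7, 6)]), (1, [(0, 2), (2, 6), (6, 4), (1, 3), (3, 7), (7, 5)]),
   (3, [(0, 5), (5, 3), (3, 6), (6, 1), (1, 7), (2, 4)]), (3, [(0, 4), (4, 2), (2, 5), (5, 3), (3, 6), (1, 7)]),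
   (2, [(0, 1), (1, 3), (3, 6), (6, 2), (2, 5), (5, 7)]), (3, [(0, 2), (2, 3), (4, 6), (5, 7)]), (4, [(1, 2), (5,
   6)]), (4, [(0, 7), (7, 2), (2, 6), (1, 5), (5, 3), (3, 4)]), (3, [(1, 3), (3, 2), (4, 6), (5, 7)]), (4, [(0, 7),
   (7, 3), (3, 5), (5, 2), (2, 6), (1, 4)]), (4, [(1, 3), (3, 2), (5, 7), (7, 6)]), (2, [(1, 3), (3, 2), (5, 7),
   (7, 6)])]

def gA4 : List (List (ℕ × ℕ)) :=
  [[(0, 1), (2, 3)], [(0, 2), (1, 3)], [(0, 1), (1, 2)]]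

def eA4 : List (List ℕ) :=
  [[], [0], [1], [2], [1, 0], [2, 0], [2, 1], [1, 2], [2, 2], [2, 2, 0], [2, 2, 1], [2, 1, 2]]

def dA4 : List (ℕ × List (ℕ × ℕ)) :=
  [(0, []), (1, []), (1, [(0, 3), (4, 7)]), (5, []), (1, [(1, 3), (3, 2)]), (5, [(1, 2), (2, 3)]), (5, [(0, 1), (1,
   3)]), (5, [(1, 3), (3, 2)]), (5, [(0, 1), (4, 5), (5, 6), (6, 7)]), (5, [(0, 3), (3, 6), (6, 4), (5, 7)]), (5,
   [(0, 3), (3, 5), (5, 7), (7, 6), (6, 2), (2, 1)]), (5, [(0, 2), (2, 3), (3, 7), (7, 1)])]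

def gS4 : List (List (ℕ × ℕ)) :=
  [[(0, 1), (2, 3)], [(0, 2), (1, 3)], [(0, 1), (1, 2)], [(0, 1), (4, 5)]]

def eS4 : List (List ℕ) :=
  [[], [0], [1], [2], [3], [1, 0], [2, 0], [3, 0], [2, 1], [3, 1], [1, 2], [2, 2], [3, 2], [1, 3], [2, 3], [2, 2,
   0], [3, 2, 0], [2, 3, 0], [2, 2, 1], [3, 2, 1], [2, 3, 1], [2, 1, 2], [3, 1, 2], [2, 1, 3]]

def dS4 : List (ℕ × List (ℕ × ℕ)) :=
  [(0, []), (1, []), (1, [(0, 3), (4, 6), (6, 7), (7, 5)]), (5, []), (1, [(2, 4), (3, 5)]), (1, [(1, 3), (3, 2)]),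
   (5, [(1, 2), (2, 3)]), (1, [(0, 2), (2, 4), (1, 3), (3, 5)]), (5, [(0, 1), (1, 3)]), (3, [(0, 2), (2, 3), (4,
   5), (6, 7)]), (5, [(1, 3), (3, 2)]), (5, [(0, 1), (3, 4), (4, 7), (5, 6)]), (1, [(0, 1), (1, 2), (2, 4), (3,
   5)]), (3, [(1, 3), (3, 2)]), (1, [(1, 2), (2, 5), (5, 6), (3, 4)]), (5, [(0, 2), (2, 1), (1, 3), (3, 5), (5, 4),
   (4, 6)]), (3, [(1, 2), (2, 3)]), (3, []), (5, [(0, 1), (1, 3), (3, 7), (7, 4), (4, 6), (6, 2)]), (3, [(0, 1),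
   (1, 3)]), (1, [(0, 4), (4, 7), (7, 6), (6, 2), (2, 1), (1, 5)]), (5, [(0, 3), (3, 7), (7, 4), (4, 6), (6, 1),
   (1, 2)]), (1, [(1, 3), (3, 5), (5, 2), (2, 4)]), (3, [(0, 3), (1, 2)])]

def gQy : List (List (ℕ × ℕ)) :=
  [[(0, 1), (2, 3)], [(0, 2), (1, 3)], [(4, 5), (6, 7)], [(4, 6), (5, 7)], [(0, 1), (1, 2), (4, 5), (5, 6)]]

def eQy : List (List ℕ) :=
  [[], [0], [1], [2], [3], [4], [1, 0], [2, 0], [3, 0], [4, 0], [2, 1], [3, 1], [4, 1], [3, 2], [4, 2], [4, 3], [1,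
   4], [3, 4], [4, 4], [2, 1, 0], [3, 1, 0], [3, 2, 0], [4, 2, 0], [4, 3, 0], [3, 4, 0], [4, 4, 0], [3, 2, 1], [4,
   2, 1], [4, 3, 1], [3, 4, 1], [4, 4, 1], [1, 4, 2], [4, 4, 2], [1, 4, 3], [4, 4, 3], [3, 1, 4], [4, 1, 4], [4, 3,
   4], [3, 2, 1, 0], [4, 4, 2, 0], [4, 4, 3, 0], [4, 3, 4, 0], [4, 4, 2, 1], [4, 4, 3, 1], [4, 3, 4, 1], [4, 1, 4,
   2], [4, 1, 4, 3], [4, 3, 1, 4]]

def dQy : List (ℕ × List (ℕ × ℕ)) :=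
  [(0, []), (1, []), (1, [(1, 2), (5, 7)]), (1, [(0, 4), (1, 5), (2, 6), (3, 7)]), (1, [(0, 6), (1, 4), (4, 3), (3,
   5), (5, 2), (2, 7)]), (6, []), (1, [(1, 3), (3, 2)]), (2, []), (2, [(0, 2), (2, 6), (6, 1), (1, 3), (3, 4), (4,
   7)]), (6, [(1, 2), (2, 3)]), (2, [(0, 5), (5, 3), (3, 7), (7, 2), (2, 6), (1, 4)]), (2, [(1, 2), (5, 6)]), (6,
   [(0, 1), (1, 3)]), (1, [(0, 4), (1, 7), (7, 3), (3, 6), (6, 2), (2, 5)]), (6, [(5, 6), (6, 7)]), (6, [(4, 5),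
   (5, 7)]), (6, [(1, 3), (3, 2)]), (6, [(5, 7), (7, 6)]), (6, [(1, 2), (5, 6)]), (2, [(1, 3), (3, 2)]), (2, [(0,
   2), (4, 6), (6, 7), (7, 5)]), (2, [(5, 7), (7, 6)]), (6, [(1, 2), (2, 3), (5, 6), (6, 7)]), (6, [(1, 2), (2, 3),
   (4, 5), (5, 7)]), (6, [(1, 2), (2, 3), (5, 7), (7, 6)]), (6, [(0, 1), (1, 2), (2, 3), (5, 6)]), (2, [(0, 2), (2,
   1), (4, 5), (5, 6)]), (6, [(0, 1), (1, 3), (5, 6), (6, 7)]), (6, [(0, 1), (1, 3), (4, 5), (5, 7)]), (6, [(0, 1),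
   (1, 3), (5, 7), (7, 6)]), (6, [(2, 3), (5, 6)]), (6, [(1, 3), (3, 2), (5, 6), (6, 7)]), (6, [(1, 2), (4, 5), (5,
   6), (6, 7)]), (6, [(1, 3), (3, 2), (4, 5), (5, 7)]), (6, [(1, 2), (6, 7)]), (6, [(1, 3), (3, 2), (5, 7), (7,
   6)]), (6, [(1, 3), (5, 6)]), (6, [(1, 2), (5, 7)]), (2, [(1, 3), (3, 2), (5, 7), (7, 6)]), (6, [(0, 1), (1, 2),
   (2, 3), (4, 5), (5, 6), (6, 7)]), (6, [(0, 1), (1, 2), (2, 3), (6, 7)]), (6, [(0, 1), (1, 2), (2, 3), (5, 7)]),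
   (6, [(2, 3), (4, 5), (5, 6), (6, 7)]), (6, [(2, 3), (6, 7)]), (6, [(2, 3), (5, 7)]), (6, [(1, 3), (4, 5), (5,
   6), (6, 7)]), (6, [(1, 3), (6, 7)]), (6, [(1, 3), (5, 7)])]

def gK : List (List (ℕ × ℕ)) :=
  [[(0, 3), (1, 2), (4, 7), (5, 6)], [(0, 3), (3, 1), (1, 2), (4, 5)]]

def eK : List (List ℕ) :=
  [[], [0], [1], [1, 0], [0, 1], [1, 1], [0, 1, 0], [1, 1, 0], [1, 0, 1], [1, 1, 1], [1, 0, 1, 0], [1, 1, 1, 0],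
   [1, 1, 0, 1], [1, 1, 0, 1, 0], [1, 1, 1, 0, 1], [1, 1, 1, 0, 1, 0]]

def dK : List (ℕ × List (ℕ × ℕ)) :=
  [(0, []), (2, [(1, 3), (3, 2), (5, 7), (7, 6)]), (3, [(1, 3), (3, 2)]), (3, [(0, 4), (1, 7), (7, 3), (3, 6), (6,
   2), (2, 5)]), (3, [(0, 7), (7, 1), (1, 4), (4, 2), (2, 6), (3, 5)]), (1, []), (3, [(1, 2), (4, 7), (7, 5), (5,
   6)]), (2, [(0, 3), (3, 7), (2, 4), (4, 6)]), (2, [(1, 3), (3, 7), (7, 4), (2, 5)]), (3, [(1, 2), (6, 7)]), (1,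
   [(0, 4), (1, 5), (2, 6), (3, 7)]), (3, [(0, 4), (4, 2), (2, 5), (5, 3), (3, 6), (1, 7)]), (3, [(0, 5), (1, 7),
   (7, 3), (3, 6), (6, 2), (2, 4)]), (3, [(1, 3), (3, 2), (4, 6), (5, 7)]), (2, [(1, 2), (5, 6)]), (2, [])]

theorem chkG_Q : chkG 8 gQ eQ = true := by decide +kernel
theorem chkC_Q : chkC 8 gQ eQ [] r8 dQ = true := by decide +kernel
theorem len_Q : eQ.length = 16 := by decide +kernel
theorem cnt_Q : (List.range 7).map (fun k => (dQ.map Prod.fst).count k) = [1, 6, 9, 0, 0, 0, 0] := by decide +kernel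

theorem chkG_Qs : chkG 8 gQs eQs = true := by decide +kernel
theorem chkC_Qs : chkC 8 gQs eQs [] r8 dQs = true := by decide +kernel
theorem len_Qs : eQs.length = 32 := by decide +kernel
theorem cnt_Qs : (List.range 7).map (fun k => (dQs.map Prod.fst).count k) = [1, 6, 13, 0, 12, 0, 0] := by decide +kernel

theorem chkG_Qj : chkG 8 gQj eQj = true := by decide +kernel
theorem chkC_Qj : chkC 8 gQj eQj [] r8 dQj = true := by decide +kernel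
theorem len_Qj : eQj.length = 32 := by decide +kernel
theorem cnt_Qj : (List.range 7).map (fun k => (dQj.map Prod.fst).count k) = [1, 10, 9, 8, 4, 0, 0] := by decide +kernel

theorem chkG_A4 : chkG 8 gA4 eA4 = true := by decide +kernel
theorem chkC_A4 : chkC 8 gA4 eA4 [] r8 dA4 = true := by decide +kernel
theorem len_A4 : eA4.length = 12 := by decide +kernel
theorem cnt_A4 : (List.range 7).map (fun k => (dA4.map Prod.fst).count k) = [1, 3, 0, 0, 0, 8, 0] := by decide +kernel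

theorem chkG_S4 : chkG 8 gS4 eS4 = true := by decide +kernel
theorem chkC_S4 : chkC 8 gS4 eS4 [] r8 dS4 = true := by decide +kernel
theorem len_S4 : eS4.length = 24 := by decide +kernel
theorem cnt_S4 : (List.range 7).map (fun k => (dS4.map Prod.fst).count k) = [1, 9, 0, 6, 0, 8, 0] := by decide +kernel

theorem chkG_Qy : chkG 8 gQy eQy = true := by decide +kernel
theorem chkC_Qy : chkC 8 gQy eQy [] r8 dQy = true := by decide +kernel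
theorem len_Qy : eQy.length = 48 := by decide +kernel
theorem cnt_Qy : (List.range 7).map (fun k => (dQy.map Prod.fst).count k) = [1, 6, 9, 0, 0, 0, 32] := by decide +kernel

theorem chkG_K : chkG 8 gK eK = true := by decide +kernel
theorem chkC_K : chkC 8 gK eK [] r8 dK = true := by decide +kernel
theorem len_K : eK.length = 16 := by decide +kernel
theorem cnt_K : (List.range 7).map (fun k => (dK.map Prod.fst).count k) = [1, 2, 5, 8, 0, 0, 0] := by decide +kernel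

end Cfsg.Agent.R2.T1.Odd
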