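import Cfsg.Agent.R2.T1.Odd.Typ

/-!
# S5771, ODD5: tables of subgroups of `A_9` (helper11)

`B27 = 3³`, `W81 = 3 ≀ 3`, `D18`, `R8` = the regular `2³`, `R56 = 2³ : 7`, `L28 = L₂(8)`
-/

set_option autoImplicit false
set_option maxRecDepth 100000

namespace Cfsg.Agent.R2.T1.Odd

/-- representatives: `1`, `2⁴`, `3`, `3²`, `3³`, `9A`, `9B`, `7` -/
def r9t : List (List (ℕ × ℕ)) :=
  [[], [(0, 1), (2, 3), (4, 5), (6, 7)], [(0, 1), (1, 2)], [(0, 1), (1, 2), (4, 5), (5, 6)], [(0, 1), (1, 2), (3, 4), (4, 5), (6, 7), (7, 8)], [(0, 1), (1, 2), (2, 3), (3, 4), (4, 5), (5, 6), (6, 7), (7, 8)], [(0, 2), (2, 3), (3, 4), (4, 5), (5, 6), (6, 7), (7, 8), (8, 1)], [(0, 1), (1, 2), (2, 3), (3, 4), (4, 5), (5, 6)]]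

def gB27 : List (List (ℕ × ℕ)) :=
  [[(0, 1), (1, 2)], [(3, 4), (4, 5)], [(6, 7), (7, 8)]]

def eB27 : List (List ℕ) :=
  [[], [0], [1], [2], [0, 0], [1, 0], [2, 0], [1, 1], [2, 1], [2, 2], [1, 0, 0], [2, 0, 0], [1, 1, 0], [2, 1, 0],
   [2, 2, 0], [2, 1, 1], [2, 2, 1], [1, 1, 0, 0], [2, 1, 0, 0], [2, 2, 0, 0], [2, 1, 1, 0], [2, 2, 1, 0], [2, 2, 1,
   1], [2, 1, 1, 0, 0], [2, 2, 1, 0, 0], [2, 2, 1, 1, 0], [2, 2, 1, 1, 0, 0]]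

def dB27 : List (ℕ × List (ℕ × ℕ)) :=
  [(0, []), (2, []), (2, [(0, 3), (3, 7), (7, 8), (8, 6), (1, 4), (2, 5)]), (2, [(0, 6), (6, 3), (1, 7), (7, 4),
   (2, 8), (8, 5)]), (2, [(1, 2), (3, 5), (5, 4), (4, 6)]), (3, [(3, 8), (8, 6), (6, 4), (4, 5)]), (3, [(4, 6), (6,
   8), (8, 5), (5, 7)]), (2, [(0, 3), (1, 5), (5, 2), (2, 4)]), (3, [(0, 6), (6, 4), (4, 5), (5, 3), (1, 7), (2,
   8)]), (2, [(0, 7), (7, 1), (1, 6), (6, 2), (2, 8), (8, 5), (5, 4), (4, 3)]), (3, [(1, 2), (3, 6), (6, 5), (5,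
   4)]), (3, [(0, 7), (7, 4), (4, 1), (1, 8), (8, 5), (2, 6)]), (3, [(3, 6), (6, 4)]), (4, []), (3, [(0, 1), (1,
   2), (3, 4), (4, 7), (5, 6), (6, 8)]), (3, [(0, 3), (1, 5), (5, 7), (2, 4), (4, 6), (6, 8)]), (3, [(0, 3), (1,
   4), (4, 6), (6, 7), (2, 5), (5, 8)]), (3, [(0, 4), (4, 1), (1, 3), (3, 7), (7, 8), (8, 6), (6, 2), (2, 5)]), (4,
   [(0, 6), (1, 7), (7, 2), (2, 8), (3, 5), (5, 4)]), (3, [(1, 2), (4, 6), (6, 7), (5, 8)]), (4, [(3, 6), (4, 7),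
   (7, 5), (5, 8)]), (4, [(3, 6), (6, 4), (4, 8), (5, 7)]), (3, [(0, 5), (5, 7), (7, 1), (1, 4), (4, 8), (2, 3)]),
   (4, [(1, 2), (4, 5)]), (4, [(1, 2), (7, 8)]), (4, [(4, 5), (7, 8)]), (4, [(0, 1), (3, 6), (6, 4), (4, 8), (8,
   5), (5, 7)])]

def gW81 : List (List (ℕ × ℕ)) :=
  [[(0, 1), (1, 2)], [(3, 4), (4, 5)], [(6, 7), (7, 8)], [(0, 3), (3, 6), (1, 4), (4, 7), (2, 5), (5, 8)]]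

def eW81 : List (List ℕ) :=
  [[], [0], [1], [2], [3], [0, 0], [1, 0], [2, 0], [3, 0], [1, 1], [2, 1], [3, 1], [2, 2], [3, 2], [3, 3], [1, 0,
   0], [2, 0, 0], [3, 0, 0], [1, 1, 0], [2, 1, 0], [3, 1, 0], [2, 2, 0], [3, 2, 0], [3, 3, 0], [2, 1, 1], [3, 1,
   1], [2, 2, 1], [3, 2, 1], [3, 3, 1], [3, 2, 2], [3, 3, 2], [1, 1, 0, 0], [2, 1, 0, 0], [3, 1, 0, 0], [2, 2, 0,
   0], [3, 2, 0, 0], [3, 3, 0, 0], [2, 1, 1, 0], [3, 1, 1, 0], [2, 2, 1, 0], [3, 2, 1, 0], [3, 3, 1, 0], [3, 2, 2,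
   0], [3, 3, 2, 0], [2, 2, 1, 1], [3, 2, 1, 1], [3, 3, 1, 1], [3, 2, 2, 1], [3, 3, 2, 1], [3, 3, 2, 2], [2, 1, 1,
   0, 0], [3, 1, 1, 0, 0], [2, 2, 1, 0, 0], [3, 2, 1, 0, 0], [3, 3, 1, 0, 0], [3, 2, 2, 0, 0], [3, 3, 2, 0, 0], [2,
   2, 1, 1, 0], [3, 2, 1, 1, 0], [3, 3, 1, 1, 0], [3, 2, 2, 1, 0], [3, 3, 2, 1, 0], [3, 3, 2, 2, 0], [3, 2, 2, 1,
   1], [3, 3, 2, 1, 1], [3, 3, 2, 2, 1], [2, 2, 1, 1, 0, 0], [3, 2, 1, 1, 0, 0], [3, 3, 1, 1, 0, 0], [3, 2, 2, 1,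
   0, 0], [3, 3, 2, 1, 0, 0], [3, 3, 2, 2, 0, 0], [3, 2, 2, 1, 1, 0], [3, 3, 2, 1, 1, 0], [3, 3, 2, 2, 1, 0], [3,
   3, 2, 2, 1, 1], [3, 2, 2, 1, 1, 0, 0], [3, 3, 2, 1, 1, 0, 0], [3, 3, 2, 2, 1, 0, 0], [3, 3, 2, 2, 1, 1, 0], [3,
   3, 2, 2, 1, 1, 0, 0]]

def dW81 : List (ℕ × List (ℕ × ℕ)) :=
  [(0, []), (2, []), (2, [(0, 3), (3, 2), (2, 5), (5, 8), (8, 7), (7, 6), (6, 1), (1, 4)]), (2, [(0, 6), (6, 3),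
   (1, 7), (7, 4), (2, 8), (8, 5)]), (4, [(0, 4), (4, 6), (6, 2), (2, 1), (1, 7), (7, 5)]), (2, [(0, 2), (3, 7)]),
   (3, [(3, 8), (8, 6)]), (3, [(4, 6), (6, 8), (8, 5), (5, 7)]), (6, [(1, 6), (6, 8), (8, 3), (3, 7), (7, 2), (2,
   4)]), (2, [(0, 3), (1, 5), (5, 2), (2, 4)]), (3, [(0, 3), (1, 4), (4, 8), (2, 5), (5, 6), (6, 7)]), (6, [(1, 6),
   (6, 8), (8, 5), (5, 4), (2, 3), (3, 7)]), (2, [(0, 6), (6, 4), (1, 8), (8, 3), (3, 5), (2, 7)]), (6, [(1, 8),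
   (8, 5), (5, 4), (2, 3), (3, 6), (6, 7)]), (4, [(1, 6), (6, 2), (2, 3), (4, 7), (7, 8), (8, 5)]), (3, [(1, 2),
   (3, 6), (6, 5), (5, 4)]), (3, [(1, 2), (4, 7), (7, 5), (5, 8)]), (5, [(1, 5), (5, 7), (7, 3), (3, 2), (2, 8),
   (8, 6)]), (3, [(3, 6), (6, 4)]), (4, []), (5, [(1, 4), (4, 3), (3, 2), (2, 8), (8, 6), (5, 7)]), (3, [(0, 2),
   (2, 1), (4, 6), (6, 7), (7, 5), (5, 8)]), (5, [(1, 4), (4, 3), (3, 2), (2, 7), (7, 5), (5, 6)]), (5, [(1, 7),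
   (7, 6), (6, 2), (2, 4), (4, 8), (8, 3)]), (3, [(0, 3), (1, 5), (5, 7), (2, 4), (4, 6), (6, 8)]), (5, [(1, 3),
   (3, 2), (2, 8), (8, 6), (4, 5), (5, 7)]), (3, [(0, 3), (1, 4), (4, 6), (6, 7), (2, 5), (5, 8)]), (5, [(1, 3),
   (3, 2), (2, 7), (7, 4), (4, 5), (5, 6)]), (5, [(1, 6), (6, 2), (2, 3), (4, 7), (7, 8), (8, 5)]), (5, [(1, 3),
   (3, 2), (2, 6), (4, 5), (5, 8), (8, 7)]), (5, [(1, 6), (6, 2), (2, 4), (4, 7), (7, 8), (8, 3)]), (3, [(0, 1),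
   (3, 6), (6, 5), (7, 8)]), (4, [(1, 2), (3, 7), (7, 4), (4, 8), (8, 5), (5, 6)]), (4, [(0, 3), (3, 6), (6, 8),
   (8, 4), (1, 7), (7, 2)]), (3, [(1, 2), (4, 6), (6, 7), (5, 8)]), (4, [(0, 3), (3, 8), (8, 7), (7, 4), (1, 6),
   (6, 2)]), (6, [(1, 3), (3, 5), (5, 7), (2, 8), (8, 6), (6, 4)]), (4, [(0, 1), (1, 2), (3, 8), (8, 5), (5, 7),
   (4, 6)]), (4, [(0, 8), (8, 4), (4, 5), (5, 7), (1, 2), (2, 3)]), (4, [(0, 8), (8, 1), (1, 7), (2, 6), (3, 4),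
   (4, 5)]), (4, [(0, 5), (5, 8), (8, 2), (2, 1), (1, 6), (6, 3)]), (6, [(1, 5), (5, 6), (6, 3), (3, 4), (4, 2),
   (2, 7)]), (4, [(0, 4), (4, 2), (1, 7), (7, 5), (5, 3), (3, 6)]), (6, [(1, 3), (3, 5), (5, 6), (6, 4), (4, 2),
   (2, 7)]), (3, [(0, 3), (3, 1), (1, 5), (5, 7), (2, 4), (4, 8)]), (4, [(0, 2), (2, 7), (7, 8), (1, 5), (5, 4),
   (3, 6)]), (6, [(1, 4), (4, 2), (2, 6), (6, 5), (5, 8), (8, 7)]), (4, [(0, 8), (8, 5), (5, 7), (7, 2), (2, 4),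
   (4, 3)]), (6, [(1, 5), (5, 8), (8, 7), (2, 6), (6, 3), (3, 4)]), (6, [(1, 3), (3, 5), (5, 8), (8, 7), (2, 6),
   (6, 4)]), (4, [(1, 2), (4, 5)]), (6, [(1, 6), (6, 8), (8, 4), (2, 5), (5, 3), (3, 7)]), (4, [(1, 2), (7, 8)]),
   (6, [(1, 8), (8, 4), (2, 5), (5, 3), (3, 6), (6, 7)]), (4, [(1, 8), (8, 4), (4, 6), (6, 2), (2, 5), (5, 3)]),
   (6, [(1, 7), (7, 2), (2, 5), (5, 3), (3, 8), (8, 4)]), (4, [(1, 8), (8, 5), (5, 4), (4, 6), (6, 2), (2, 3)]),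
   (4, [(4, 5), (7, 8)]), (6, [(1, 8), (8, 3), (3, 6), (6, 7), (7, 2), (2, 4)]), (4, [(1, 7), (7, 6), (6, 2), (2,
   4), (4, 8), (8, 3)]), (6, [(1, 7), (7, 2), (2, 4), (3, 8)]), (4, [(1, 7), (7, 6), (6, 2), (2, 5), (5, 3), (4,
   8)]), (4, [(1, 7), (7, 6), (6, 2), (2, 3), (4, 8), (8, 5)]), (6, [(1, 7), (7, 2), (2, 3), (3, 8), (8, 5), (5,
   4)]), (4, [(1, 6), (6, 2), (2, 4), (4, 7), (7, 8), (8, 3)]), (4, [(1, 6), (6, 2), (2, 5), (5, 3), (4, 7), (7,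
   8)]), (4, [(0, 8), (1, 7), (2, 6), (3, 5)]), (5, [(1, 5), (5, 6), (2, 7), (7, 3)]), (5, [(1, 8), (8, 4), (4, 6),
   (6, 2), (2, 5), (5, 3)]), (5, [(1, 5), (5, 8), (8, 7), (7, 3), (3, 2), (2, 6)]), (5, [(1, 8), (8, 5), (5, 4),
   (4, 6), (6, 2), (2, 3)]), (5, [(1, 8), (8, 3), (2, 4), (4, 6)]), (5, [(1, 4), (4, 3), (3, 2), (2, 6), (5, 8),
   (8, 7)]), (5, [(1, 7), (7, 6), (6, 2), (2, 5), (5, 3), (4, 8)]), (5, [(1, 7), (7, 6), (6, 2), (2, 3), (4, 8),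
   (8, 5)]), (5, [(1, 6), (6, 2), (2, 5), (5, 3), (4, 7), (7, 8)]), (4, [(0, 2), (2, 6), (6, 7), (1, 4), (3, 8),
   (8, 5)]), (6, [(1, 4), (4, 2), (2, 8), (8, 6), (6, 5), (5, 7)]), (6, [(1, 5), (5, 7), (2, 8), (8, 6), (6, 3),
   (3, 4)]), (6, [(1, 4), (4, 2), (2, 7), (5, 6)]), (4, [(1, 8), (8, 3), (2, 4), (4, 6)])]

def gD18 : List (List (ℕ × ℕ)) :=
  [[(0, 1), (1, 2), (2, 3), (3, 4), (4, 5), (5, 6), (6, 7), (7, 8)], [(1, 8), (2, 7), (3, 6), (4, 5)]]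

def eD18 : List (List ℕ) :=
  [[], [0], [1], [0, 0], [1, 0], [0, 1], [0, 0, 0], [1, 0, 0], [0, 0, 1], [1, 0, 1], [0, 0, 0, 0], [1, 0, 0, 0],
   [0, 0, 0, 1], [1, 0, 0, 1], [0, 0, 0, 0, 0], [1, 0, 0, 0, 0], [0, 0, 0, 0, 1], [1, 0, 0, 0, 1]]

def dD18 : List (ℕ × List (ℕ × ℕ)) :=
  [(0, []), (5, []), (1, [(0, 1), (1, 8), (3, 7), (7, 5), (5, 6), (6, 4)]), (5, [(1, 2), (2, 4), (4, 8), (8, 7),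
   (7, 5), (3, 6)]), (1, [(1, 8), (8, 4), (4, 2), (3, 7), (7, 5), (5, 6)]), (1, [(0, 4), (4, 3), (3, 2), (2, 8),
   (8, 5), (5, 7), (7, 1), (1, 6)]), (4, [(0, 6), (6, 7), (7, 1), (2, 3), (3, 8), (8, 4)]), (1, [(1, 7), (7, 4),
   (4, 2), (3, 6)]), (1, [(0, 7), (7, 3), (1, 4), (4, 5), (5, 6), (6, 8)]), (5, [(1, 8), (2, 7), (3, 6), (4, 5)]),
   (5, [(1, 4), (4, 7), (2, 8), (8, 5)]), (1, [(0, 7), (7, 1), (1, 8), (8, 3), (3, 4), (5, 6)]), (1, [(1, 3), (3,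
   2), (5, 8), (8, 6)]), (5, [(1, 7), (7, 4), (2, 5), (5, 8)]), (5, [(1, 5), (5, 7), (7, 8), (8, 4), (4, 2), (3,
   6)]), (1, [(1, 5), (5, 3), (3, 4), (4, 2), (6, 8), (8, 7)]), (1, [(1, 4), (4, 5), (5, 8), (8, 2)]), (4, [(1, 6),
   (6, 2), (2, 3), (4, 7), (7, 8), (8, 5)])]

def gR8 : List (List (ℕ × ℕ)) :=
  [[(0, 1), (2, 3), (4, 5), (6, 7)], [(0, 2), (1, 3), (4, 6), (5, 7)], [(0, 4), (1, 5), (2, 6), (3, 7)]]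

def eR8 : List (List ℕ) :=
  [[], [0], [1], [2], [1, 0], [2, 0], [2, 1], [2, 1, 0]]

def dR8 : List (ℕ × List (ℕ × ℕ)) :=
  [(0, []), (1, []), (1, [(1, 2), (5, 6)]), (1, [(1, 4), (4, 2), (3, 5), (5, 6)]), (1, [(1, 3), (3, 2), (5, 7), (7,
   6)]), (1, [(1, 5), (5, 7), (7, 6), (6, 3), (3, 4), (4, 2)]), (1, [(1, 6), (6, 3), (3, 7), (7, 5), (5, 4), (4,
   2)]), (1, [(1, 7), (7, 4), (4, 2), (3, 6)])]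

def gR56 : List (List (ℕ × ℕ)) :=
  [[(0, 1), (2, 3), (4, 5), (6, 7)], [(0, 2), (1, 3), (4, 6), (5, 7)], [(0, 4), (1, 5), (2, 6), (3, 7)], [(1, 2),
   (2, 4), (4, 3), (3, 6), (6, 7), (7, 5)]]

def eR56 : List (List ℕ) :=
  [[], [0], [1], [2], [3], [1, 0], [2, 0], [3, 0], [2, 1], [3, 1], [3, 2], [0, 3], [3, 3], [2, 1, 0], [3, 1, 0],
   [3, 3, 0], [3, 2, 1], [0, 3, 1], [3, 3, 1], [3, 3, 2], [3, 0, 3], [0, 3, 3], [3, 3, 3], [3, 3, 1, 0], [0, 3, 3,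
   0], [3, 3, 3, 0], [3, 3, 3, 1], [3, 3, 3, 2], [3, 3, 0, 3], [3, 0, 3, 3], [0, 3, 3, 3], [3, 3, 3, 3], [3, 3, 3,
   1, 0], [3, 3, 3, 3, 0], [3, 3, 3, 3, 1], [3, 3, 3, 3, 2], [3, 3, 3, 0, 3], [3, 3, 0, 3, 3], [3, 0, 3, 3, 3], [0,
   3, 3, 3, 3], [3, 3, 3, 3, 3], [3, 3, 3, 3, 3, 0], [3, 3, 3, 3, 3, 1], [3, 3, 3, 3, 3, 2], [3, 3, 3, 3, 0, 3],
   [3, 3, 3, 0, 3, 3], [3, 3, 0, 3, 3, 3], [3, 0, 3, 3, 3, 3], [3, 3, 3, 3, 3, 3], [3, 3, 3, 3, 3, 3, 0], [3, 3, 3,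
   3, 3, 3, 1], [3, 3, 3, 3, 3, 3, 2], [3, 3, 3, 3, 3, 0, 3], [3, 3, 3, 3, 0, 3, 3], [3, 3, 3, 0, 3, 3, 3], [3, 3,
   0, 3, 3, 3, 3]]

def dR56 : List (ℕ × List (ℕ × ℕ)) :=
  [(0, []), (1, []), (1, [(1, 2), (5, 6)]), (1, [(1, 4), (4, 2), (3, 5), (5, 6)]), (7, [(0, 1), (1, 2), (2, 4), (4,
   6), (6, 5), (5, 7)]), (1, [(1, 3), (3, 2), (5, 7), (7, 6)]), (1, [(1, 5), (5, 7), (7, 6), (6, 3), (3, 4), (4,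
   2)]), (7, [(1, 2), (2, 6), (3, 5), (5, 4)]), (1, [(1, 6), (6, 3), (3, 7), (7, 5), (5, 4), (4, 2)]), (7, [(1, 4),
   (4, 6), (6, 2), (2, 7), (7, 5), (5, 3)]), (7, [(1, 3), (3, 2), (2, 5), (5, 6), (6, 4), (4, 7)]), (7, [(2, 3),
   (3, 7), (7, 6), (6, 5)]), (7, [(0, 1), (1, 4), (4, 2), (2, 6), (6, 7), (3, 5)]), (1, [(1, 7), (7, 4), (4, 2),
   (3, 6)]), (7, [(1, 6), (6, 3), (3, 4), (4, 5), (5, 7), (7, 2)]), (7, [(1, 4), (4, 5), (5, 6), (3, 7)]), (7, [(1,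
   7), (7, 4)]), (7, [(1, 5), (2, 4), (3, 6), (6, 7)]), (7, [(1, 3), (3, 5), (5, 7), (7, 6), (6, 2), (2, 4)]), (7,
   [(1, 6), (6, 4), (4, 2), (2, 3)]), (7, [(1, 2), (3, 6), (6, 5), (4, 7)]), (7, [(2, 5), (5, 4), (4, 6), (6, 7)]),
   (7, [(0, 1), (1, 3), (3, 4), (4, 7), (7, 8), (2, 5)]), (7, [(1, 7), (7, 5), (2, 6), (6, 3)]), (7, [(1, 5), (5,
   2), (2, 7), (3, 4)]), (7, [(0, 7), (7, 8), (8, 4), (4, 6), (6, 5), (5, 2)]), (7, [(0, 7), (7, 8), (8, 3), (3,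
   5), (1, 4), (4, 2)]), (7, [(0, 7), (7, 8), (8, 6), (1, 5), (5, 4), (2, 3)]), (7, [(0, 3), (3, 6), (6, 4), (4,
   5), (2, 7), (7, 8)]), (7, [(0, 5), (5, 2), (2, 3), (3, 7), (7, 8), (8, 1), (1, 6), (6, 4)]), (7, [(0, 6), (6,
   4), (4, 7), (7, 8), (8, 5), (5, 3), (3, 2), (2, 1)]), (7, [(0, 1), (1, 6), (6, 3), (3, 7)]), (7, [(0, 5), (5,
   3), (3, 4), (4, 2), (2, 6), (7, 8)]), (7, [(1, 6), (2, 4), (4, 7), (7, 5)]), (7, [(1, 7), (2, 3), (3, 6), (4,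
   5)]), (7, [(1, 5), (5, 3), (3, 7), (7, 2), (2, 6), (6, 4)]), (7, [(1, 3), (3, 4), (4, 6), (6, 5)]), (7, [(1, 4),
   (4, 3), (3, 2), (6, 7)]), (7, [(1, 2), (2, 5), (5, 7), (7, 3)]), (7, [(2, 7), (7, 4), (3, 5), (5, 6)]), (7, [(0,
   5), (5, 3), (3, 1), (1, 6), (6, 2), (2, 4), (4, 7), (7, 8)]), (7, [(1, 7), (7, 8), (8, 2), (2, 4), (4, 3), (3,
   6)]), (7, [(0, 2), (2, 5), (5, 6), (6, 1), (4, 7), (7, 8)]), (7, [(2, 6), (6, 4), (4, 7), (7, 8), (8, 3), (3,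
   5)]), (7, [(0, 6), (1, 2), (2, 3), (3, 4), (4, 7), (7, 8)]), (7, [(0, 7), (7, 8), (8, 5), (5, 2), (2, 3), (3,
   1)]), (7, [(0, 5), (1, 2), (4, 6), (7, 8)]), (7, [(0, 7), (7, 8), (8, 6), (6, 2), (2, 5), (3, 4)]), (7, [(0, 4),
   (4, 7), (7, 8), (1, 2), (3, 5), (5, 6)]), (7, [(0, 3), (3, 5), (5, 4), (4, 2), (6, 7), (7, 8)]), (7, [(0, 1),
   (1, 4), (4, 6), (2, 3), (3, 5), (7, 8)]), (7, [(0, 1), (1, 7), (7, 8), (8, 5), (5, 3), (2, 4)]), (7, [(0, 1),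
   (1, 2), (2, 6), (6, 7), (7, 8), (8, 3), (3, 4), (4, 5)]), (7, [(0, 7), (7, 8), (8, 4), (4, 1), (2, 6), (3, 5)]),
   (7, [(0, 3), (3, 4), (4, 1), (1, 7), (7, 8), (8, 2), (2, 5), (5, 6)]), (7, [(0, 3), (3, 6), (6, 5), (5, 2), (2,
   4), (4, 7), (7, 8), (8, 1)])]

def gR8L : List (List (ℕ × ℕ)) :=
  [[(0, 1), (2, 3), (4, 5), (6, 7)], [(0, 3), (1, 2), (4, 6), (5, 7)], [(0, 5), (1, 4), (2, 6), (3, 7)]]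

def eR8L : List (List ℕ) :=
  [[], [0], [1], [2], [1, 0], [2, 0], [2, 1], [2, 1, 0]]

def dR8L : List (ℕ × List (ℕ × ℕ)) :=
  [(0, []), (1, []), (1, [(0, 4), (4, 3), (3, 1), (1, 6), (6, 7), (7, 5)]), (1, [(0, 3), (3, 1), (1, 7), (7, 5),
   (5, 6), (2, 4)]), (1, [(0, 3), (3, 7), (7, 2), (2, 4), (4, 5), (5, 6)]), (1, [(0, 6), (6, 2), (2, 4), (4, 5),
   (5, 1), (1, 3)]), (1, [(0, 1), (1, 6), (6, 5), (5, 2), (2, 7), (7, 3)]), (1, [(0, 2), (2, 3), (3, 4), (4, 1),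
   (1, 5), (5, 7)])]

def gL28 : List (List (ℕ × ℕ)) :=
  [[(0, 1), (2, 3), (4, 5), (6, 7)], [(0, 3), (1, 2), (4, 6), (5, 7)], [(0, 5), (1, 4), (2, 6), (3, 7)], [(1, 8),
   (2, 5), (3, 6), (4, 7)]]

def eL28 : List (List ℕ) :=
  [[], [0], [1], [2], [3], [1, 0], [2, 0], [3, 0], [2, 1], [3, 1], [3, 2], [0, 3], [1, 3], [2, 3], [2, 1, 0], [3,
   1, 0], [3, 2, 0], [0, 3, 0], [1, 3, 0], [2, 3, 0], [3, 2, 1], [0, 3, 1], [1, 3, 1], [2, 3, 1], [0, 3, 2], [1, 3,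
   2], [2, 3, 2], [1, 0, 3], [2, 0, 3], [2, 1, 3], [3, 1, 3], [3, 2, 3], [3, 2, 1, 0], [0, 3, 1, 0], [1, 3, 1, 0],
   [2, 3, 1, 0], [0, 3, 2, 0], [1, 3, 2, 0], [2, 3, 2, 0], [1, 0, 3, 0], [2, 0, 3, 0], [2, 1, 3, 0], [3, 1, 3, 0],
   [3, 2, 3, 0], [0, 3, 2, 1], [1, 3, 2, 1], [2, 3, 2, 1], [1, 0, 3, 1], [2, 0, 3, 1], [2, 1, 3, 1], [3, 1, 3, 1],
   [3, 2, 3, 1], [1, 0, 3, 2], [2, 0, 3, 2], [2, 1, 3, 2], [3, 1, 3, 2], [3, 2, 3, 2], [2, 1, 0, 3], [3, 1, 0, 3],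
   [3, 2, 0, 3], [3, 2, 1, 3], [0, 3, 1, 3], [1, 3, 1, 3], [2, 3, 1, 3], [0, 3, 2, 3], [1, 3, 2, 3], [2, 3, 2, 3],
   [0, 3, 2, 1, 0], [1, 3, 2, 1, 0], [2, 3, 2, 1, 0], [1, 0, 3, 1, 0], [2, 0, 3, 1, 0], [2, 1, 3, 1, 0], [3, 1, 3,
   1, 0], [3, 2, 3, 1, 0], [1, 0, 3, 2, 0], [2, 0, 3, 2, 0], [2, 1, 3, 2, 0], [3, 1, 3, 2, 0], [3, 2, 3, 2, 0], [2,
   1, 0, 3, 0], [3, 1, 0, 3, 0], [3, 2, 0, 3, 0], [3, 2, 1, 3, 0], [0, 3, 1, 3, 0], [1, 3, 1, 3, 0], [2, 3, 1, 3,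
   0], [0, 3, 2, 3, 0], [1, 3, 2, 3, 0], [2, 3, 2, 3, 0], [1, 0, 3, 2, 1], [2, 0, 3, 2, 1], [2, 1, 3, 2, 1], [3, 1,
   3, 2, 1], [3, 2, 3, 2, 1], [2, 1, 0, 3, 1], [3, 1, 0, 3, 1], [3, 2, 0, 3, 1], [3, 2, 1, 3, 1], [0, 3, 1, 3, 1],
   [1, 3, 1, 3, 1], [2, 3, 1, 3, 1], [0, 3, 2, 3, 1], [1, 3, 2, 3, 1], [2, 3, 2, 3, 1], [2, 1, 0, 3, 2], [3, 1, 0,
   3, 2], [3, 2, 0, 3, 2], [3, 2, 1, 3, 2], [0, 3, 1, 3, 2], [1, 3, 1, 3, 2], [2, 3, 1, 3, 2], [0, 3, 2, 3, 2], [1,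
   3, 2, 3, 2], [2, 3, 2, 3, 2], [3, 2, 1, 0, 3], [0, 3, 1, 0, 3], [1, 3, 1, 0, 3], [2, 3, 1, 0, 3], [0, 3, 2, 0,
   3], [1, 3, 2, 0, 3], [2, 3, 2, 0, 3], [0, 3, 2, 1, 3], [1, 3, 2, 1, 3], [2, 3, 2, 1, 3], [1, 0, 3, 1, 3], [2, 0,
   3, 1, 3], [2, 1, 3, 1, 3], [3, 1, 3, 1, 3], [3, 2, 3, 1, 3], [1, 0, 3, 2, 3], [2, 0, 3, 2, 3], [2, 1, 3, 2, 3],
   [3, 1, 3, 2, 3], [3, 2, 3, 2, 3], [1, 0, 3, 2, 1, 0], [2, 0, 3, 2, 1, 0], [2, 1, 3, 2, 1, 0], [3, 1, 3, 2, 1,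
   0], [3, 2, 3, 2, 1, 0], [2, 1, 0, 3, 1, 0], [3, 1, 0, 3, 1, 0], [3, 2, 0, 3, 1, 0], [3, 2, 1, 3, 1, 0], [0, 3,
   1, 3, 1, 0], [1, 3, 1, 3, 1, 0], [2, 3, 1, 3, 1, 0], [0, 3, 2, 3, 1, 0], [1, 3, 2, 3, 1, 0], [2, 3, 2, 3, 1, 0],
   [2, 1, 0, 3, 2, 0], [3, 1, 0, 3, 2, 0], [3, 2, 0, 3, 2, 0], [3, 2, 1, 3, 2, 0], [0, 3, 1, 3, 2, 0], [1, 3, 1, 3,
   2, 0], [2, 3, 1, 3, 2, 0], [0, 3, 2, 3, 2, 0], [1, 3, 2, 3, 2, 0], [2, 3, 2, 3, 2, 0], [3, 2, 1, 0, 3, 0], [0,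
   3, 1, 0, 3, 0], [1, 3, 1, 0, 3, 0], [2, 3, 1, 0, 3, 0], [0, 3, 2, 0, 3, 0], [1, 3, 2, 0, 3, 0], [2, 3, 2, 0, 3,
   0], [0, 3, 2, 1, 3, 0], [1, 3, 2, 1, 3, 0], [2, 3, 2, 1, 3, 0], [1, 0, 3, 1, 3, 0], [2, 0, 3, 1, 3, 0], [2, 1,
   3, 1, 3, 0], [3, 1, 3, 1, 3, 0], [3, 2, 3, 1, 3, 0], [1, 0, 3, 2, 3, 0], [2, 0, 3, 2, 3, 0], [2, 1, 3, 2, 3, 0],
   [3, 1, 3, 2, 3, 0], [3, 2, 3, 2, 3, 0], [2, 1, 0, 3, 2, 1], [3, 1, 0, 3, 2, 1], [3, 2, 0, 3, 2, 1], [3, 2, 1, 3,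
   2, 1], [0, 3, 1, 3, 2, 1], [1, 3, 1, 3, 2, 1], [0, 3, 2, 3, 2, 1], [1, 3, 2, 3, 2, 1], [2, 3, 2, 3, 2, 1], [3,
   2, 1, 0, 3, 1], [0, 3, 1, 0, 3, 1], [1, 3, 1, 0, 3, 1], [2, 3, 1, 0, 3, 1], [0, 3, 2, 0, 3, 1], [1, 3, 2, 0, 3,
   1], [2, 3, 2, 0, 3, 1], [0, 3, 2, 1, 3, 1], [1, 3, 2, 1, 3, 1], [2, 3, 2, 1, 3, 1], [1, 0, 3, 1, 3, 1], [2, 0,
   3, 1, 3, 1], [2, 1, 3, 1, 3, 1], [3, 1, 3, 1, 3, 1], [1, 0, 3, 2, 3, 1], [2, 0, 3, 2, 3, 1], [2, 1, 3, 2, 3, 1],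
   [3, 1, 3, 2, 3, 1], [3, 2, 3, 2, 3, 1], [3, 2, 1, 0, 3, 2], [0, 3, 1, 0, 3, 2], [1, 3, 1, 0, 3, 2], [2, 3, 1, 0,
   3, 2], [0, 3, 2, 0, 3, 2], [1, 3, 2, 0, 3, 2], [2, 3, 2, 0, 3, 2], [0, 3, 2, 1, 3, 2], [1, 3, 2, 1, 3, 2], [2,
   3, 2, 1, 3, 2], [1, 0, 3, 1, 3, 2], [2, 0, 3, 1, 3, 2], [2, 1, 3, 1, 3, 2], [3, 1, 3, 1, 3, 2], [1, 0, 3, 2, 3,
   2], [2, 0, 3, 2, 3, 2], [2, 1, 3, 2, 3, 2], [3, 1, 3, 2, 3, 2], [3, 2, 3, 2, 3, 2], [0, 3, 2, 1, 0, 3], [2, 3,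
   2, 1, 0, 3], [1, 0, 3, 1, 0, 3], [2, 0, 3, 1, 0, 3], [2, 1, 3, 1, 0, 3], [3, 1, 3, 1, 0, 3], [3, 2, 3, 1, 0, 3],
   [1, 0, 3, 2, 0, 3], [2, 0, 3, 2, 0, 3], [2, 1, 3, 2, 0, 3], [3, 1, 3, 2, 0, 3], [3, 2, 3, 2, 0, 3], [1, 0, 3, 2,
   1, 3], [2, 0, 3, 2, 1, 3], [2, 1, 3, 2, 1, 3], [3, 1, 3, 2, 1, 3], [3, 2, 3, 2, 1, 3], [3, 1, 0, 3, 1, 3], [3,
   2, 0, 3, 1, 3], [3, 2, 1, 3, 1, 3], [0, 3, 1, 3, 1, 3], [1, 3, 1, 3, 1, 3], [2, 3, 1, 3, 1, 3], [0, 3, 2, 3, 1,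
   3], [1, 3, 2, 3, 1, 3], [2, 1, 0, 3, 2, 3], [3, 1, 0, 3, 2, 3], [3, 2, 0, 3, 2, 3], [3, 2, 1, 3, 2, 3], [0, 3,
   2, 3, 2, 3], [2, 3, 2, 3, 2, 3], [2, 1, 0, 3, 2, 1, 0], [3, 1, 0, 3, 2, 1, 0], [3, 2, 0, 3, 2, 1, 0], [3, 2, 1,
   3, 2, 1, 0], [0, 3, 1, 3, 2, 1, 0], [1, 3, 1, 3, 2, 1, 0], [0, 3, 2, 3, 2, 1, 0], [1, 3, 2, 3, 2, 1, 0], [2, 3,
   2, 3, 2, 1, 0], [3, 2, 1, 0, 3, 1, 0], [0, 3, 1, 0, 3, 1, 0], [1, 3, 1, 0, 3, 1, 0], [2, 3, 1, 0, 3, 1, 0], [0,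
   3, 2, 0, 3, 1, 0], [1, 3, 2, 0, 3, 1, 0], [2, 3, 2, 0, 3, 1, 0], [0, 3, 2, 1, 3, 1, 0], [1, 3, 2, 1, 3, 1, 0],
   [2, 3, 2, 1, 3, 1, 0], [1, 0, 3, 1, 3, 1, 0], [2, 0, 3, 1, 3, 1, 0], [2, 1, 3, 1, 3, 1, 0], [3, 1, 3, 1, 3, 1,
   0], [1, 0, 3, 2, 3, 1, 0], [2, 0, 3, 2, 3, 1, 0], [3, 1, 3, 2, 3, 1, 0], [3, 2, 3, 2, 3, 1, 0], [3, 2, 1, 0, 3,
   2, 0], [0, 3, 1, 0, 3, 2, 0], [1, 3, 1, 0, 3, 2, 0], [2, 3, 1, 0, 3, 2, 0], [0, 3, 2, 0, 3, 2, 0], [1, 3, 2, 0,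
   3, 2, 0], [2, 3, 2, 0, 3, 2, 0], [0, 3, 2, 1, 3, 2, 0], [2, 3, 2, 1, 3, 2, 0], [1, 0, 3, 1, 3, 2, 0], [2, 0, 3,
   1, 3, 2, 0], [2, 1, 3, 1, 3, 2, 0], [3, 1, 3, 1, 3, 2, 0], [1, 0, 3, 2, 3, 2, 0], [2, 0, 3, 2, 3, 2, 0], [2, 1,
   3, 2, 3, 2, 0], [3, 1, 3, 2, 3, 2, 0], [3, 2, 3, 2, 3, 2, 0], [0, 3, 2, 1, 0, 3, 0], [2, 3, 2, 1, 0, 3, 0], [1,
   0, 3, 1, 0, 3, 0], [2, 0, 3, 1, 0, 3, 0], [2, 1, 3, 1, 0, 3, 0], [3, 1, 3, 1, 0, 3, 0], [3, 2, 3, 1, 0, 3, 0],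
   [1, 0, 3, 2, 0, 3, 0], [2, 0, 3, 2, 0, 3, 0], [2, 1, 3, 2, 0, 3, 0], [3, 1, 3, 2, 0, 3, 0], [3, 2, 3, 2, 0, 3,
   0], [1, 0, 3, 2, 1, 3, 0], [2, 0, 3, 2, 1, 3, 0], [2, 1, 3, 2, 1, 3, 0], [3, 2, 3, 2, 1, 3, 0], [3, 1, 0, 3, 1,
   3, 0], [3, 2, 0, 3, 1, 3, 0], [3, 2, 1, 3, 1, 3, 0], [0, 3, 1, 3, 1, 3, 0], [1, 3, 1, 3, 1, 3, 0], [2, 3, 1, 3,
   1, 3, 0], [0, 3, 2, 3, 1, 3, 0], [1, 3, 2, 3, 1, 3, 0], [2, 1, 0, 3, 2, 3, 0], [3, 1, 0, 3, 2, 3, 0], [3, 2, 0,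
   3, 2, 3, 0], [0, 3, 2, 3, 2, 3, 0], [2, 3, 2, 3, 2, 3, 0], [3, 2, 1, 0, 3, 2, 1], [0, 3, 1, 0, 3, 2, 1], [1, 3,
   1, 0, 3, 2, 1], [2, 3, 1, 0, 3, 2, 1], [0, 3, 2, 0, 3, 2, 1], [0, 3, 2, 1, 3, 2, 1], [1, 3, 2, 1, 3, 2, 1], [1,
   0, 3, 1, 3, 2, 1], [2, 0, 3, 2, 3, 2, 1], [2, 1, 3, 2, 3, 2, 1], [3, 1, 3, 2, 3, 2, 1], [3, 2, 3, 2, 3, 2, 1],
   [0, 3, 2, 1, 0, 3, 1], [2, 3, 2, 1, 0, 3, 1], [1, 0, 3, 1, 0, 3, 1], [2, 1, 3, 1, 0, 3, 1], [3, 1, 3, 1, 0, 3,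
   1], [3, 2, 3, 1, 0, 3, 1], [1, 0, 3, 2, 0, 3, 1], [2, 0, 3, 2, 0, 3, 1], [3, 1, 3, 2, 0, 3, 1], [1, 0, 3, 2, 1,
   3, 1], [2, 1, 3, 2, 1, 3, 1], [3, 1, 3, 2, 1, 3, 1], [3, 1, 0, 3, 1, 3, 1], [3, 2, 0, 3, 1, 3, 1], [0, 3, 1, 3,
   1, 3, 1], [2, 1, 0, 3, 2, 3, 1], [3, 2, 0, 3, 2, 3, 1], [0, 3, 2, 3, 2, 3, 1], [2, 3, 2, 3, 2, 3, 1], [0, 3, 2,
   1, 0, 3, 2], [2, 3, 2, 1, 0, 3, 2], [2, 0, 3, 1, 0, 3, 2], [2, 1, 3, 1, 0, 3, 2], [1, 0, 3, 2, 0, 3, 2], [2, 0,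
   3, 2, 0, 3, 2], [3, 1, 3, 2, 0, 3, 2], [3, 2, 3, 2, 0, 3, 2], [1, 0, 3, 2, 1, 3, 2], [2, 0, 3, 2, 1, 3, 2], [3,
   1, 0, 3, 1, 3, 2], [3, 2, 0, 3, 1, 3, 2], [3, 2, 1, 3, 1, 3, 2], [0, 3, 1, 3, 1, 3, 2], [2, 1, 0, 3, 2, 3, 2],
   [3, 2, 1, 3, 2, 3, 2], [2, 3, 2, 3, 2, 3, 2], [2, 0, 3, 2, 1, 0, 3], [3, 2, 3, 2, 1, 0, 3], [2, 1, 0, 3, 1, 0,
   3], [3, 2, 1, 3, 1, 0, 3], [1, 3, 1, 3, 1, 0, 3], [0, 3, 2, 3, 1, 0, 3], [2, 1, 0, 3, 2, 0, 3], [3, 2, 0, 3, 2,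
   0, 3], [1, 3, 1, 3, 2, 0, 3], [2, 3, 1, 3, 2, 0, 3], [1, 3, 2, 3, 2, 0, 3], [2, 1, 0, 3, 2, 1, 3], [3, 1, 0, 3,
   2, 1, 3], [0, 3, 1, 3, 2, 1, 3], [2, 3, 2, 3, 2, 1, 3], [1, 3, 1, 0, 3, 1, 3], [0, 3, 2, 0, 3, 1, 3], [1, 3, 2,
   0, 3, 1, 3], [1, 3, 2, 1, 3, 1, 3], [1, 0, 3, 1, 3, 1, 3], [2, 0, 3, 1, 3, 1, 3], [3, 1, 3, 1, 3, 1, 3], [3, 1,
   3, 2, 3, 1, 3], [3, 2, 1, 0, 3, 2, 3], [2, 3, 2, 0, 3, 2, 3], [0, 3, 2, 1, 3, 2, 3], [3, 2, 1, 0, 3, 2, 1, 0],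
   [0, 3, 1, 0, 3, 2, 1, 0], [1, 3, 1, 0, 3, 2, 1, 0], [2, 3, 1, 0, 3, 2, 1, 0], [0, 3, 2, 0, 3, 2, 1, 0], [0, 3,
   2, 1, 3, 2, 1, 0], [1, 0, 3, 1, 3, 2, 1, 0], [2, 0, 3, 2, 3, 2, 1, 0], [3, 1, 3, 2, 3, 2, 1, 0], [3, 2, 3, 2, 3,
   2, 1, 0], [0, 3, 2, 1, 0, 3, 1, 0], [2, 3, 2, 1, 0, 3, 1, 0], [1, 0, 3, 1, 0, 3, 1, 0], [2, 1, 3, 1, 0, 3, 1,
   0], [3, 1, 3, 1, 0, 3, 1, 0], [3, 2, 3, 1, 0, 3, 1, 0], [1, 0, 3, 2, 0, 3, 1, 0], [2, 0, 3, 2, 0, 3, 1, 0], [1,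
   0, 3, 2, 1, 3, 1, 0], [2, 1, 3, 2, 1, 3, 1, 0], [3, 1, 0, 3, 1, 3, 1, 0], [3, 2, 0, 3, 1, 3, 1, 0], [0, 3, 1, 3,
   1, 3, 1, 0], [3, 2, 0, 3, 2, 3, 1, 0], [0, 3, 2, 3, 2, 3, 1, 0], [2, 3, 2, 3, 2, 3, 1, 0], [0, 3, 2, 1, 0, 3, 2,
   0], [2, 3, 2, 1, 0, 3, 2, 0], [2, 1, 3, 1, 0, 3, 2, 0], [1, 0, 3, 2, 0, 3, 2, 0], [2, 0, 3, 2, 0, 3, 2, 0], [3,
   1, 3, 2, 0, 3, 2, 0], [3, 2, 3, 2, 0, 3, 2, 0], [3, 1, 0, 3, 1, 3, 2, 0], [3, 2, 1, 3, 1, 3, 2, 0], [0, 3, 1, 3,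
   1, 3, 2, 0], [2, 1, 0, 3, 2, 3, 2, 0], [2, 3, 2, 3, 2, 3, 2, 0], [2, 0, 3, 2, 1, 0, 3, 0], [3, 2, 3, 2, 1, 0, 3,
   0], [2, 1, 0, 3, 1, 0, 3, 0], [3, 2, 1, 3, 1, 0, 3, 0], [1, 3, 1, 3, 1, 0, 3, 0], [0, 3, 2, 3, 1, 0, 3, 0], [2,
   1, 0, 3, 2, 0, 3, 0], [3, 2, 0, 3, 2, 0, 3, 0], [2, 3, 1, 3, 2, 0, 3, 0], [1, 3, 2, 3, 2, 0, 3, 0], [2, 1, 0, 3,
   2, 1, 3, 0], [3, 1, 0, 3, 2, 1, 3, 0], [2, 3, 2, 3, 2, 1, 3, 0], [1, 3, 1, 0, 3, 1, 3, 0], [0, 3, 2, 0, 3, 1, 3,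
   0], [1, 3, 2, 1, 3, 1, 3, 0], [1, 0, 3, 1, 3, 1, 3, 0], [2, 0, 3, 1, 3, 1, 3, 0], [3, 2, 1, 0, 3, 2, 3, 0], [2,
   3, 2, 0, 3, 2, 3, 0], [2, 3, 2, 1, 0, 3, 2, 1], [2, 1, 3, 1, 0, 3, 2, 1], [1, 0, 3, 2, 1, 3, 2, 1], [3, 1, 0, 3,
   1, 3, 2, 1], [2, 3, 2, 3, 2, 3, 2, 1], [3, 2, 3, 2, 1, 0, 3, 1], [3, 2, 1, 3, 1, 0, 3, 1], [3, 1, 0, 3, 2, 1, 3,
   1], [0, 3, 1, 3, 2, 1, 3, 1], [3, 2, 1, 0, 3, 2, 3, 1], [2, 3, 2, 0, 3, 2, 3, 1], [2, 0, 3, 2, 1, 0, 3, 2], [3,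
   2, 3, 2, 1, 0, 3, 2], [3, 2, 1, 3, 1, 0, 3, 2], [3, 1, 0, 3, 2, 1, 3, 2], [1, 3, 1, 0, 3, 1, 3, 2], [3, 2, 1, 0,
   3, 2, 3, 2], [3, 2, 0, 3, 2, 1, 0, 3], [0, 3, 2, 3, 2, 1, 0, 3], [1, 3, 2, 3, 2, 1, 0, 3], [2, 3, 2, 3, 2, 1, 0,
   3], [2, 3, 2, 1, 3, 1, 0, 3], [3, 2, 1, 0, 3, 2, 0, 3], [0, 3, 1, 0, 3, 2, 1, 3], [3, 2, 3, 2, 3, 2, 1, 3], [3,
   1, 3, 1, 0, 3, 1, 3], [0, 3, 2, 1, 0, 3, 2, 3], [2, 3, 2, 1, 0, 3, 2, 3], [2, 3, 2, 1, 0, 3, 2, 1, 0], [2, 1, 3,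
   1, 0, 3, 2, 1, 0], [3, 1, 0, 3, 1, 3, 2, 1, 0], [3, 2, 3, 2, 1, 0, 3, 1, 0], [3, 1, 0, 3, 2, 1, 3, 1, 0], [2, 3,
   2, 0, 3, 2, 3, 1, 0], [3, 2, 1, 3, 1, 0, 3, 2, 0], [3, 2, 1, 0, 3, 2, 3, 2, 0], [3, 2, 1, 3, 1, 0, 3, 2, 1], [3,
   1, 0, 3, 2, 1, 3, 2, 1], [0, 3, 1, 0, 3, 2, 1, 3, 1], [2, 3, 2, 1, 3, 1, 0, 3, 2]]

def dL28 : List (ℕ × List (ℕ × ℕ)) :=
  [(0, []), (1, []), (1, [(0, 3), (3, 4), (4, 2), (2, 6), (6, 5), (5, 1)]), (1, [(0, 3), (3, 6), (6, 5), (5, 4),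
   (4, 1), (1, 7)]), (1, [(0, 4), (4, 8), (1, 7), (7, 3), (3, 2), (2, 5)]), (1, [(0, 4), (4, 1), (1, 7), (7, 6),
   (6, 5), (5, 3)]), (1, [(0, 6), (6, 5), (5, 7), (7, 1), (1, 3), (2, 4)]), (4, [(1, 8), (8, 6), (6, 4), (4, 3),
   (3, 7), (7, 2)]), (1, [(0, 2), (2, 1), (1, 4), (4, 5), (5, 3), (3, 6)]), (5, [(1, 6), (6, 5), (2, 7), (7, 4),
   (4, 8), (8, 3)]), (5, [(1, 2), (2, 3), (3, 4), (4, 8), (8, 5), (6, 7)]), (4, [(2, 8), (8, 5), (5, 6), (6, 3)]),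
   (5, [(1, 3), (3, 5), (5, 8), (8, 6), (6, 2), (2, 4)]), (5, [(1, 5), (5, 8), (8, 2), (2, 6), (6, 4), (3, 7)]),
   (1, [(0, 4), (4, 2), (2, 1), (1, 3), (3, 7), (7, 6)]), (7, [(0, 8), (8, 4), (2, 6), (6, 3)]), (7, [(1, 7), (7,
   3), (3, 8), (8, 6), (6, 4), (2, 5)]), (1, [(0, 5), (5, 8), (8, 1), (1, 6), (6, 2), (2, 4)]), (7, [(1, 8), (8,
   6), (6, 7), (7, 5), (5, 3), (3, 4)]), (7, [(0, 1), (1, 5), (5, 4), (4, 8), (8, 2), (2, 3)]), (5, [(1, 4), (4,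
   8), (8, 7), (7, 2), (2, 5), (3, 6)]), (7, [(0, 1), (1, 4), (3, 8), (8, 5), (5, 7), (7, 6)]), (1, [(1, 4), (4,
   2), (3, 7), (7, 6), (6, 5), (5, 8)]), (5, [(1, 2), (2, 8), (3, 4), (4, 7), (7, 5), (5, 6)]), (7, [(1, 3), (2,
   5), (5, 4), (4, 6), (6, 8), (8, 7)]), (5, [(2, 5), (5, 7), (7, 8), (4, 6)]), (1, [(1, 6), (6, 8), (8, 5), (5,
   7), (7, 4), (4, 2)]), (7, [(1, 2), (2, 6), (6, 5), (5, 3), (4, 8), (8, 7)]), (7, [(0, 4), (4, 5), (5, 7), (7,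
   6), (1, 2), (3, 8)]), (5, [(1, 7), (7, 5), (5, 8), (8, 4)]), (1, [(0, 6), (6, 7), (7, 3), (3, 5), (5, 4), (4,
   2), (2, 8), (8, 1)]), (1, [(1, 2), (2, 3), (3, 5), (5, 6), (6, 7), (7, 8)]), (7, [(0, 6), (6, 4), (4, 8), (8,
   2), (2, 3), (3, 7), (7, 5), (5, 1)]), (5, [(1, 4), (2, 5), (5, 7), (7, 3)]), (4, [(1, 7), (7, 3), (2, 5), (5,
   6)]), (7, [(0, 1), (1, 2), (2, 5), (5, 8), (8, 6), (6, 4), (4, 3), (3, 7)]), (5, [(1, 6), (6, 2), (2, 7), (7,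
   5), (5, 3), (3, 4)]), (7, [(0, 5), (5, 3), (3, 6), (1, 8)]), (4, [(1, 3), (2, 7), (7, 5), (4, 6)]), (5, [(1, 8),
   (8, 4), (4, 7), (7, 5), (2, 3), (3, 6)]), (5, [(1, 8), (8, 6), (6, 4), (4, 3), (3, 2), (2, 5)]), (7, [(1, 8),
   (8, 4), (2, 6), (6, 5), (5, 7), (7, 3)]), (5, [(2, 6), (6, 5), (5, 8), (8, 7)]), (5, [(3, 5), (5, 8), (4, 6),
   (6, 7)]), (7, [(0, 6), (6, 2), (1, 8), (8, 3), (3, 5), (4, 7)]), (5, [(1, 6), (6, 7), (7, 3), (3, 2), (2, 8),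
   (4, 5)]), (5, [(2, 7), (7, 8), (8, 4), (3, 5)]), (4, [(0, 2), (2, 3), (3, 4), (4, 1), (1, 8), (5, 6)]), (7, [(1,
   3), (3, 6), (6, 5), (5, 8), (8, 7), (2, 4)]), (5, [(2, 3), (3, 7), (7, 8), (8, 6)]), (5, [(1, 7), (2, 8), (8,
   4), (4, 3), (3, 5), (5, 6)]), (7, [(1, 5), (5, 2), (2, 8), (8, 6), (3, 7), (7, 4)]), (7, [(0, 2), (2, 4), (4,
   3), (3, 8), (5, 7), (7, 6)]), (4, [(0, 3), (3, 4), (4, 8), (8, 1), (2, 7), (7, 6)]), (5, [(1, 4), (4, 3), (3,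
   6), (6, 5), (5, 2), (2, 8)]), (7, [(1, 8), (8, 7), (7, 3), (3, 6), (6, 2), (2, 5)]), (5, [(1, 3), (3, 7), (2,
   8), (8, 6), (6, 4), (4, 5)]), (7, [(1, 6), (6, 3), (2, 4), (4, 8), (8, 5), (5, 7)]), (1, [(0, 8), (8, 1), (1,
   6), (6, 3), (3, 7), (7, 2), (2, 4), (4, 5)]), (1, [(1, 7), (7, 5), (5, 6), (6, 4), (4, 3), (3, 8)]), (1, [(0,
   3), (1, 8), (2, 4), (5, 6)]), (5, [(1, 7), (7, 6), (6, 3), (3, 5), (5, 4), (4, 8)]), (5, [(1, 4), (4, 6), (6,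
   5), (5, 3), (3, 2), (7, 8)]), (7, [(0, 6), (6, 4), (4, 2), (2, 8), (8, 3), (1, 5)]), (5, [(1, 3), (3, 7), (7,
   2), (2, 4), (4, 8), (5, 6)]), (7, [(4, 7), (7, 6), (6, 5), (5, 8)]), (5, [(1, 6), (6, 7), (7, 8), (8, 3), (3,
   4), (4, 2)]), (5, [(1, 2), (2, 3), (3, 6), (6, 4)]), (7, [(0, 1), (1, 6), (6, 2), (2, 3), (3, 5), (5, 8), (8,
   4), (4, 7)]), (7, [(0, 6), (6, 2), (1, 5), (5, 4), (4, 8), (3, 7)]), (1, [(1, 6), (6, 4), (4, 3), (3, 5), (5,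
   8), (8, 2)]), (5, [(2, 3), (3, 8), (8, 4), (4, 5), (5, 6), (6, 7)]), (7, [(0, 8), (8, 1), (1, 6), (6, 3), (3,
   2), (2, 4), (4, 7), (7, 5)]), (5, [(1, 4), (4, 7), (7, 8), (8, 5), (5, 2), (2, 3)]), (7, [(0, 1), (1, 5), (5,
   6), (6, 3), (3, 8), (8, 2), (2, 4), (4, 7)]), (5, [(1, 4), (4, 6), (6, 8), (3, 7)]), (1, [(0, 3), (3, 8), (8,
   4), (4, 2), (2, 5), (1, 6)]), (7, [(0, 1), (1, 4), (4, 5), (5, 8), (8, 2), (2, 7)]), (4, [(0, 6), (6, 3), (3,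
   8), (8, 2), (2, 4), (4, 5), (5, 1), (1, 7)]), (5, [(1, 6), (6, 2), (2, 5), (5, 4), (4, 3), (7, 8)]), (5, [(1,
   8), (8, 2), (2, 7), (7, 3), (3, 4), (4, 5)]), (7, [(2, 5), (5, 6), (6, 4), (4, 8), (8, 3), (3, 7)]), (7, [(2,
   7), (7, 4), (4, 8), (8, 5)]), (5, [(2, 4), (3, 7), (7, 6), (5, 8)]), (1, [(0, 3), (3, 6), (6, 8), (1, 5), (5,
   7), (7, 4)]), (5, [(1, 2), (2, 5), (5, 8), (8, 6), (6, 7), (7, 3)]), (4, [(0, 2), (2, 1), (1, 3), (5, 8), (8,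
   7), (7, 6)]), (1, [(0, 1), (1, 3), (3, 4), (4, 5), (5, 7), (7, 8)]), (7, [(0, 5), (5, 6), (6, 8), (8, 1), (1,
   4), (4, 7), (7, 3), (3, 2)]), (5, [(1, 4), (4, 6), (6, 3), (2, 7), (7, 5), (5, 8)]), (7, [(1, 7), (3, 4), (4,
   6), (5, 8)]), (7, [(0, 7), (7, 2), (2, 1), (1, 4), (4, 8), (3, 6)]), (1, [(1, 2), (3, 5), (5, 4), (7, 8)]), (7,
   [(1, 3), (3, 5), (5, 6), (2, 8), (8, 4), (4, 7)]), (7, [(0, 2), (2, 1), (1, 6), (6, 7), (7, 5), (5, 8), (8, 3),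
   (3, 4)]), (7, [(0, 8), (1, 7), (7, 4), (4, 6), (6, 2), (2, 5)]), (5, [(1, 2), (4, 5), (6, 8), (8, 7)]), (4, [(1,
   6), (6, 3), (2, 5), (4, 8)]), (7, [(1, 8), (8, 5), (2, 3), (3, 4)]), (5, [(1, 6), (2, 3), (3, 7), (7, 5), (5,
   4), (4, 8)]), (1, [(0, 8), (8, 2), (2, 5), (5, 6), (6, 4), (4, 1), (1, 7), (7, 3)]), (7, [(0, 8), (8, 1), (2,
   3), (6, 7)]), (7, [(1, 4), (4, 6), (6, 2), (2, 5), (5, 7), (3, 8)]), (1, [(1, 7), (7, 8), (8, 2), (5, 6)]), (7,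
   [(0, 1), (1, 5), (5, 2), (2, 8), (8, 7), (4, 6)]), (7, [(1, 5), (5, 8), (8, 3), (3, 2), (2, 6), (6, 7)]), (7,
   [(0, 8), (1, 6), (6, 2), (2, 3), (3, 4), (5, 7)]), (5, [(1, 4), (4, 7), (7, 2), (3, 5), (5, 6), (6, 8)]), (7,
   [(0, 3), (3, 1), (1, 5), (5, 7), (7, 6), (6, 8), (8, 2), (2, 4)]), (4, [(1, 8), (8, 6), (6, 5), (5, 2), (2, 4),
   (4, 3)]), (7, [(1, 8), (8, 6), (6, 3), (3, 5), (5, 2), (2, 7)]), (1, [(1, 8), (8, 4), (4, 2), (3, 6)]), (5, [(1,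
   2), (2, 5), (5, 6), (4, 8)]), (7, [(0, 6), (6, 2), (2, 8), (1, 3), (3, 5), (5, 4)]), (1, [(0, 1), (1, 2), (2,
   8), (8, 4), (4, 7), (7, 5)]), (1, [(0, 2), (2, 3), (1, 5), (5, 7), (7, 8), (4, 6)]), (7, [(0, 4), (4, 5), (5,
   1), (1, 6), (2, 8), (3, 7)]), (5, [(1, 7), (2, 6), (6, 3), (3, 8)]), (7, [(0, 1), (1, 4), (4, 8), (8, 5), (5,
   2), (2, 3), (3, 6), (6, 7)]), (7, [(1, 6), (3, 8), (8, 4), (5, 7)]), (4, [(1, 5), (5, 7), (7, 2), (2, 6)]), (5,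
   [(1, 3), (3, 8), (8, 4), (4, 6), (6, 5), (5, 7)]), (5, [(1, 5), (5, 2), (2, 6), (6, 7), (7, 4), (4, 8)]), (7,
   [(1, 6), (6, 8), (8, 7), (7, 5), (5, 3), (3, 2)]), (7, [(2, 4), (4, 3), (3, 5), (5, 8), (8, 6), (6, 7)]), (5,
   [(1, 5), (5, 7), (7, 3), (3, 6), (2, 8), (8, 4)]), (4, [(1, 3), (4, 5), (5, 8), (8, 6)]), (7, [(0, 7), (7, 4),
   (1, 5), (2, 8)]), (1, [(1, 7), (7, 8), (8, 6), (6, 4), (4, 2), (3, 5)]), (5, [(1, 5), (5, 3), (3, 7), (7, 2)]),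
   (7, [(0, 6), (6, 3), (3, 4), (4, 5), (5, 1), (1, 7), (7, 2), (2, 8)]), (5, [(1, 7), (7, 5), (5, 3), (3, 2), (2,
   8), (8, 6)]), (7, [(1, 4), (4, 2), (3, 6), (6, 8), (8, 5), (5, 7)]), (5, [(1, 8), (8, 5), (5, 4), (4, 3), (3,
   6), (6, 7)]), (1, [(1, 3), (3, 7), (7, 8), (8, 2)]), (5, [(2, 7), (7, 6), (6, 5), (5, 4), (4, 3), (3, 8)]), (5,
   [(1, 6), (6, 8), (2, 4), (5, 7)]), (4, [(1, 5), (5, 4), (4, 2), (2, 3)]), (7, [(0, 1), (1, 3), (3, 8), (8, 6),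
   (6, 7), (4, 5)]), (4, [(0, 3), (3, 7), (7, 5), (5, 8), (1, 6), (6, 4)]), (5, [(1, 2), (2, 6), (6, 8), (3, 5)]),
   (7, [(0, 8), (8, 4), (4, 1), (1, 6), (6, 5), (5, 2)]), (5, [(1, 8), (8, 4), (4, 5), (5, 3), (3, 7), (7, 6)]),
   (4, [(0, 6), (6, 8), (8, 1), (1, 7), (7, 3), (3, 5), (5, 4), (4, 2)]), (5, [(1, 5), (5, 4), (4, 8), (8, 3), (3,
   6), (6, 2)]), (5, [(1, 6), (6, 3), (3, 7), (7, 2), (2, 8), (8, 4)]), (7, [(0, 4), (1, 7), (7, 5), (2, 6), (6,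
   3), (3, 8)]), (7, [(2, 4), (4, 6), (6, 3), (3, 8), (8, 7), (7, 5)]), (5, [(1, 3), (4, 7), (7, 5), (6, 8)]), (4,
   [(1, 5), (5, 7), (7, 4), (4, 6), (6, 3), (3, 2)]), (5, [(2, 5), (3, 8), (8, 6), (4, 7)]), (5, [(1, 7), (7, 5),
   (5, 2), (2, 3), (3, 8), (4, 6)]), (7, [(1, 5), (5, 8), (8, 6), (6, 2), (3, 4), (4, 7)]), (7, [(0, 1), (1, 7),
   (2, 6), (6, 5), (3, 8), (8, 4)]), (7, [(1, 3), (3, 8), (8, 6), (6, 5), (5, 7), (7, 2)]), (7, [(2, 8), (8, 4),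
   (4, 6), (3, 7)]), (5, [(1, 6), (6, 7), (2, 3), (3, 5)]), (5, [(1, 7), (7, 3), (3, 2), (4, 8), (8, 5), (5, 6)]),
   (4, [(1, 4), (4, 8), (8, 7), (7, 6), (6, 3), (3, 2)]), (5, [(1, 2), (2, 8), (8, 6), (6, 5), (5, 7), (7, 4)]),
   (7, [(2, 3), (3, 5), (5, 4), (4, 8), (8, 7), (7, 6)]), (1, [(0, 1), (1, 4), (4, 5), (5, 6), (6, 7), (7, 8)]),
   (7, [(1, 2), (3, 7), (7, 5), (5, 4), (4, 8), (8, 6)]), (5, [(1, 4), (4, 7), (7, 6), (6, 2), (2, 5), (5, 8)]),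
   (1, [(0, 5), (5, 7), (7, 6), (6, 1), (1, 4), (4, 2), (2, 3), (3, 8)]), (5, [(1, 2), (2, 4), (4, 3), (3, 6), (5,
   8), (8, 7)]), (7, [(0, 6), (6, 8), (8, 2), (1, 5), (5, 3), (3, 4)]), (1, [(0, 8), (1, 2), (2, 5), (5, 3), (4,
   7), (7, 6)]), (4, [(0, 4), (4, 6), (6, 8), (8, 2), (2, 3), (3, 1), (1, 5), (5, 7)]), (7, [(0, 8), (8, 1), (1,
   7), (7, 5), (5, 3), (2, 6)]), (5, [(1, 3), (3, 2), (2, 7), (5, 8)]), (7, [(0, 4), (1, 8), (8, 2), (6, 7)]), (7,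
   [(1, 6), (6, 2), (2, 5), (5, 3), (3, 4), (4, 8)]), (7, [(1, 5), (5, 7), (7, 2), (2, 8), (8, 3), (3, 4)]), (5,
   [(1, 7), (7, 3), (3, 6), (6, 5)]), (7, [(0, 4), (4, 2), (5, 6), (6, 8)]), (5, [(1, 5), (5, 8), (8, 7), (2, 3),
   (3, 4), (4, 6)]), (4, [(0, 2), (2, 7), (1, 3), (6, 8)]), (5, [(1, 5), (2, 7), (4, 6), (6, 8)]), (7, [(1, 7), (7,
   4), (2, 8), (8, 5), (5, 3), (3, 6)]), (4, [(0, 4), (1, 2), (3, 5), (6, 7)]), (4, [(1, 4), (4, 8), (8, 5), (5,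
   6), (6, 2), (2, 3)]), (7, [(0, 5), (5, 8), (1, 6), (6, 2)]), (5, [(1, 5), (5, 4), (4, 7), (2, 8)]), (7, [(1, 2),
   (2, 3), (3, 8), (8, 7)]), (7, [(0, 1), (1, 3), (3, 7), (2, 8), (8, 5), (5, 6)]), (4, [(1, 8), (8, 3), (2, 6),
   (4, 5)]), (5, [(1, 8), (8, 3), (3, 7), (7, 4), (2, 5), (5, 6)]), (7, [(1, 8), (8, 2), (2, 3), (3, 7), (4, 6),
   (6, 5)]), (7, [(0, 2), (2, 5), (5, 4), (4, 8), (3, 6), (6, 7)]), (7, [(0, 1), (1, 2), (5, 8), (6, 7)]), (1, [(2,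
   8), (3, 4), (4, 7), (7, 5)]), (4, [(1, 6), (6, 2), (2, 3), (4, 7)]), (5, [(1, 7), (7, 4), (4, 8), (8, 2), (2,
   5), (5, 3)]), (1, [(1, 4), (4, 3), (3, 8), (8, 2)]), (7, [(1, 2), (2, 4), (3, 7), (5, 8)]), (4, [(1, 8), (8, 4),
   (4, 7), (7, 5), (5, 6), (6, 3)]), (1, [(1, 8), (8, 2), (3, 4), (5, 6)]), (5, [(1, 8), (8, 5), (5, 2), (2, 7),
   (7, 6), (6, 4)]), (5, [(1, 4), (4, 5), (6, 7), (7, 8)]), (7, [(1, 2), (2, 5), (5, 8), (8, 3), (3, 6), (4, 7)]),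
   (7, [(0, 7), (7, 5), (5, 6), (6, 4), (4, 2), (2, 3), (3, 1), (1, 8)]), (4, [(1, 2), (2, 5), (5, 7), (7, 6), (6,
   4), (4, 3)]), (5, [(1, 6), (2, 5), (5, 7), (3, 8)]), (4, [(0, 8), (8, 6), (6, 3), (3, 4), (1, 2), (2, 5)]), (5,
   [(1, 3), (3, 2), (2, 4), (4, 6), (6, 7), (7, 5)]), (5, [(1, 4), (4, 2), (2, 3), (3, 8), (8, 7), (7, 6)]), (7,
   [(0, 1), (1, 2), (2, 7), (3, 4), (4, 8), (5, 6)]), (4, [(1, 2), (2, 7), (7, 6), (6, 3), (4, 8), (8, 5)]), (5,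
   [(2, 6), (6, 3), (4, 8), (5, 7)]), (4, [(0, 8), (8, 6), (1, 4), (4, 7), (7, 3), (3, 5)]), (1, [(1, 5), (5, 8),
   (8, 4), (4, 2)]), (7, [(1, 5), (2, 6), (6, 4), (4, 3), (3, 8), (8, 7)]), (7, [(1, 6), (6, 2), (2, 8), (8, 3),
   (4, 7), (7, 5)]), (1, [(0, 5), (5, 7), (7, 1), (1, 3), (3, 8), (8, 4), (4, 2), (2, 6)]), (7, [(1, 6), (6, 4),
   (4, 2), (2, 7), (3, 8), (8, 5)]), (5, [(1, 5), (2, 6), (6, 3), (3, 4)]), (1, [(1, 3), (3, 6), (6, 8), (8, 4)]),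
   (7, [(1, 8), (8, 5), (5, 3), (3, 7), (7, 2), (2, 6)]), (5, [(1, 8), (8, 6), (6, 5), (5, 4), (4, 2), (3, 7)]),
   (5, [(1, 8), (8, 7), (7, 2), (2, 3), (3, 5), (5, 4)]), (5, [(2, 8), (8, 3), (3, 4), (4, 5), (5, 7), (7, 6)]),
   (4, [(0, 6), (6, 8), (8, 3), (1, 2), (2, 7), (7, 4)]), (5, [(1, 6), (6, 3), (3, 5), (2, 4), (4, 7), (7, 8)]),
   (7, [(0, 8), (8, 1), (2, 5), (5, 7), (3, 4), (4, 6)]), (7, [(0, 4), (4, 3), (3, 2), (2, 8), (1, 5), (6, 7)]),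
   (4, [(1, 4), (4, 5), (5, 3), (2, 7), (7, 8), (8, 6)]), (7, [(1, 2), (2, 4), (4, 5), (5, 3), (3, 8), (8, 6)]),
   (4, [(0, 6), (6, 7), (7, 2), (2, 5), (5, 1), (1, 3), (3, 4), (4, 8)]), (7, [(1, 6), (6, 3), (3, 5), (2, 8), (8,
   7), (7, 4)]), (5, [(2, 5), (5, 6), (6, 8), (8, 7), (7, 3), (3, 4)]), (4, [(0, 5), (5, 6), (1, 7), (7, 3), (3,
   8), (8, 4)]), (4, [(0, 2), (2, 4), (4, 3), (3, 7), (7, 6), (6, 5), (5, 8), (8, 1)]), (7, [(0, 1), (1, 7), (2,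
   8), (8, 3), (3, 5), (5, 4)]), (5, [(1, 4), (4, 3), (2, 6), (6, 7)]), (7, [(0, 7), (7, 6), (6, 8), (8, 3), (3,
   5), (5, 2), (2, 1), (1, 4)]), (7, [(0, 1), (1, 6), (6, 3), (3, 2), (2, 5), (5, 4), (4, 8), (8, 7)]), (7, [(1,
   2), (3, 5), (5, 7), (7, 4)]), (4, [(0, 1), (1, 7), (7, 5), (5, 4), (4, 6), (6, 3)]), (4, [(1, 7), (7, 5), (5,
   8), (8, 4), (4, 3), (2, 6)]), (7, [(0, 5), (5, 7), (7, 4), (4, 6), (6, 1), (1, 2), (2, 3), (3, 8)]), (5, [(1,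
   2), (3, 6), (5, 7), (7, 8)]), (5, [(1, 3), (3, 5), (5, 7), (7, 6), (6, 4), (4, 2)]), (5, [(1, 8), (8, 7), (2,
   4), (4, 5), (5, 6), (6, 3)]), (4, [(1, 2), (2, 4), (4, 6), (6, 3)]), (7, [(0, 3), (3, 2), (2, 1), (1, 5), (5,
   6), (6, 7), (7, 8), (8, 4)]), (5, [(1, 8), (8, 3), (3, 4), (4, 7), (2, 6), (6, 5)]), (7, [(0, 5), (5, 4), (4,
   1), (2, 6), (6, 8), (3, 7)]), (4, [(0, 4), (4, 7), (7, 2), (2, 6), (6, 5), (5, 3), (3, 1), (1, 8)]), (5, [(1,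
   3), (3, 2), (2, 6), (6, 4), (4, 7), (7, 8)]), (5, [(1, 4), (3, 8), (8, 5), (5, 6)]), (5, [(1, 7), (7, 3), (2,
   6), (6, 8), (8, 4), (4, 5)]), (4, [(1, 5), (5, 8), (8, 3), (2, 4), (4, 7), (7, 6)]), (7, [(0, 5), (5, 4), (4,
   6), (6, 2), (2, 7), (7, 3), (3, 1), (1, 8)]), (4, [(1, 4), (4, 2), (2, 6), (6, 3), (5, 7), (7, 8)]), (5, [(1,
   7), (7, 4), (4, 6), (6, 2)]), (7, [(1, 2), (2, 3), (4, 6), (6, 7), (7, 5), (5, 8)]), (4, [(0, 2), (2, 8), (1,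
   6), (6, 7), (7, 4), (3, 5)]), (1, [(1, 4), (4, 2), (6, 7), (7, 8)]), (5, [(1, 8), (8, 2), (2, 6), (3, 5), (5,
   7), (7, 4)]), (5, [(1, 3), (3, 8), (2, 5), (5, 4)]), (5, [(1, 2), (2, 7), (7, 8), (8, 3), (4, 5), (5, 6)]), (7,
   [(3, 8), (8, 5), (5, 6), (6, 7)]), (4, [(0, 3), (3, 5), (5, 4), (4, 6), (6, 8), (8, 2)]), (7, [(0, 7), (7, 4),
   (4, 8), (8, 2), (2, 5), (5, 6), (6, 3), (3, 1)]), (5, [(1, 6), (6, 4), (4, 5), (5, 3), (3, 8), (8, 2)]), (7,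
   [(2, 8), (8, 6), (6, 4), (5, 7)]), (5, [(1, 5), (5, 6), (6, 2), (2, 7), (7, 3), (3, 8)]), (5, [(1, 2), (2, 4),
   (4, 8), (8, 3), (3, 5), (5, 7)]), (7, [(0, 3), (3, 5), (5, 4), (4, 8), (1, 2), (2, 7)]), (5, [(1, 7), (7, 8),
   (8, 2), (2, 3), (3, 4), (5, 6)]), (4, [(0, 8), (8, 1), (1, 3), (3, 2), (4, 6), (6, 7)]), (7, [(1, 8), (8, 7),
   (7, 6), (6, 5), (5, 2), (3, 4)]), (5, [(1, 8), (8, 7), (7, 5), (5, 3), (2, 6), (6, 4)]), (7, [(0, 5), (5, 8),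
   (8, 4), (4, 1), (1, 3), (3, 7), (7, 6), (6, 2)]), (5, [(1, 4), (4, 2), (2, 7), (5, 6)]), (5, [(1, 2), (3, 8),
   (8, 4), (4, 7)]), (1, [(0, 1), (1, 4), (4, 5), (5, 2), (3, 7), (7, 8)]), (7, [(0, 6), (6, 4), (4, 3), (3, 2),
   (2, 1), (1, 8)]), (4, [(1, 2), (4, 6), (5, 8), (8, 7)]), (5, [(1, 3), (3, 6), (6, 7), (7, 8), (8, 4), (2, 5)]),
   (1, [(1, 2), (3, 6), (6, 5), (5, 8)]), (7, [(1, 4), (4, 7), (2, 8), (8, 6), (6, 5), (5, 3)]), (1, [(1, 6), (6,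
   3), (3, 4), (4, 2), (5, 8), (8, 7)]), (5, [(1, 2), (2, 3), (3, 7), (7, 4), (4, 5), (5, 8)]), (5, [(1, 8), (8,
   6), (2, 4), (4, 7)]), (7, [(0, 8), (8, 1), (1, 7), (7, 4), (3, 5), (5, 6)]), (5, [(1, 5), (5, 3), (3, 6), (6,
   8), (8, 7), (7, 4)]), (7, [(1, 3), (3, 2), (2, 8), (8, 7), (7, 6), (6, 4)]), (5, [(1, 4), (4, 8), (8, 5), (5,
   3), (3, 7), (2, 6)]), (5, [(1, 7), (7, 2), (2, 8), (8, 3), (4, 6), (6, 5)]), (7, [(0, 3), (3, 6), (6, 4), (4,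
   2), (2, 8), (1, 7)]), (7, [(2, 6), (6, 5), (5, 4), (3, 8)]), (5, [(1, 5), (5, 6), (6, 8), (8, 2), (2, 4), (4,
   3)]), (7, [(0, 1), (1, 8), (8, 7), (2, 6), (3, 4), (4, 5)]), (1, [(1, 7), (7, 4), (4, 2), (3, 8), (8, 5), (5,
   6)]), (5, [(1, 4), (4, 3), (3, 8), (8, 6), (6, 2), (5, 7)]), (7, [(0, 7), (7, 5), (5, 8), (8, 1), (1, 3), (3,
   2), (2, 6), (6, 4)]), (7, [(0, 4), (4, 7), (7, 6), (6, 8), (8, 1), (2, 5)]), (1, [(0, 6), (6, 2), (2, 7), (7,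
   8), (8, 5), (3, 4)]), (7, [(0, 3), (1, 2), (2, 8), (8, 4)]), (7, [(0, 7), (7, 5), (5, 1), (1, 6), (2, 4), (3,
   8)]), (5, [(1, 5), (5, 4), (2, 7), (7, 8), (8, 6), (6, 3)]), (1, [(0, 1), (1, 2), (2, 3), (3, 4), (4, 5), (5,
   8)]), (5, [(1, 4), (4, 5), (5, 8), (8, 3), (3, 2), (2, 6)]), (5, [(1, 3), (3, 6), (6, 5), (5, 8), (8, 2), (4,
   7)]), (7, [(1, 5), (5, 3), (3, 7), (4, 8)]), (5, [(1, 6), (3, 4), (4, 7), (5, 8)]), (5, [(1, 5), (3, 8), (4, 7),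
   (7, 6)]), (4, [(1, 7), (7, 6), (6, 5), (5, 4), (4, 3), (3, 2)]), (4, [(1, 3), (2, 8), (8, 6), (5, 7)]), (5, [(1,
   5), (5, 8), (8, 4), (4, 3), (3, 2), (6, 7)]), (5, [(1, 6), (6, 4), (4, 3), (3, 5), (5, 8), (2, 7)]), (7, [(1,
   5), (5, 2), (2, 4), (6, 7)]), (5, [(1, 7), (7, 2), (2, 4), (4, 3), (3, 8), (8, 5)]), (7, [(1, 3), (3, 2), (2,
   5), (4, 8), (8, 6), (6, 7)]), (7, [(1, 5), (5, 6), (2, 4), (4, 8), (8, 7), (7, 3)]), (5, [(1, 6), (6, 5), (5,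
   8), (8, 4), (4, 2), (2, 3)]), (5, [(1, 7), (7, 4), (4, 2), (2, 3), (3, 5), (6, 8)]), (5, [(1, 6), (6, 2), (2,
   8), (8, 5)]), (7, [(0, 3), (3, 5), (5, 1), (7, 8)]), (5, [(1, 3), (3, 7), (7, 6), (6, 8), (8, 2), (2, 5)]), (1,
   [(0, 2), (2, 5), (5, 1), (1, 3), (3, 8), (8, 7), (7, 4), (4, 6)]), (5, [(1, 7), (7, 6), (6, 8), (8, 3), (3, 2),
   (2, 4)]), (7, [(0, 1), (1, 3), (3, 2), (2, 7), (4, 6), (6, 8)]), (5, [(1, 6), (6, 8), (8, 4), (4, 7), (2, 5),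
   (5, 3)]), (1, [(1, 5), (5, 4), (4, 2), (3, 7), (7, 8), (8, 6)]), (7, [(1, 7), (7, 2), (2, 3), (3, 6), (6, 5),
   (4, 8)]), (4, [(0, 1), (2, 6), (6, 5), (5, 8), (8, 3), (3, 7)]), (5, [(1, 2), (2, 8), (8, 7), (7, 3), (3, 5),
   (4, 6)]), (1, [(0, 4), (4, 7), (7, 2), (2, 6), (6, 1), (1, 5), (5, 8), (8, 3)]), (5, [(1, 3), (3, 4), (2, 6),
   (6, 8), (8, 5), (5, 7)]), (5, [(1, 6), (6, 8), (8, 5), (5, 2), (3, 7), (7, 4)]), (5, [(1, 5), (5, 7), (7, 2),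
   (2, 3), (4, 8), (8, 6)]), (7, [(1, 6), (6, 4), (3, 5), (5, 8)]), (5, [(2, 8), (8, 7), (7, 4), (4, 3)]), (5, [(3,
   4), (4, 8), (8, 6), (6, 5)]), (5, [(1, 4), (4, 8), (8, 6), (2, 7), (7, 3), (3, 5)]), (7, [(1, 7), (7, 4), (4,
   3), (3, 2), (2, 6), (6, 8)]), (4, [(3, 4), (4, 7), (7, 8), (8, 6)]), (7, [(1, 8), (8, 7), (7, 4), (4, 6)]), (1,
   [(1, 8), (8, 6), (2, 5), (5, 7)]), (4, [(2, 3), (4, 7), (7, 6), (5, 8)]), (5, [(2, 8), (8, 5), (5, 3), (3, 6),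
   (6, 4), (4, 7)]), (5, [(2, 4), (4, 8), (3, 6), (6, 7)]), (5, [(1, 5), (5, 7), (7, 8), (3, 4)]), (7, [(0, 2), (2,
   6), (6, 7), (1, 3), (3, 4), (4, 8)]), (7, [(1, 4), (4, 5), (5, 2), (2, 8), (8, 7), (7, 3)]), (5, [(1, 8), (2,
   7), (7, 4), (3, 6)]), (1, [(1, 3), (3, 4), (4, 2), (5, 7), (7, 8), (8, 6)]), (7, [(0, 1), (1, 8), (8, 6), (6,
   4), (4, 2), (3, 5)]), (5, [(1, 3), (3, 5), (5, 6), (7, 8)]), (7, [(1, 7), (2, 3), (4, 5), (5, 6)]), (5, [(1, 8),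
   (8, 4), (4, 6), (6, 3), (3, 5), (5, 2)]), (7, [(1, 8), (8, 4), (4, 2), (2, 5), (5, 6), (6, 7)]), (7, [(2, 7),
   (7, 3), (4, 5), (6, 8)]), (5, [(1, 7), (7, 2), (3, 4), (4, 5), (5, 8), (8, 6)]), (7, [(0, 1), (2, 5), (5, 4),
   (4, 6), (6, 7), (7, 8)]), (5, [(1, 3), (3, 8), (8, 7), (7, 4), (4, 5), (2, 6)]), (5, [(1, 2), (2, 7), (3, 4),
   (6, 8)]), (7, [(0, 8), (8, 2), (2, 1), (1, 5), (5, 4), (4, 3), (3, 7), (7, 6)]), (5, [(2, 3), (4, 6), (6, 8),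
   (8, 5)]), (5, [(1, 5), (5, 3), (3, 8), (8, 6), (6, 7), (2, 4)]), (5, [(1, 3), (2, 7), (7, 6), (4, 8)]), (1, [(1,
   6), (6, 5), (5, 3), (3, 8), (8, 4), (4, 2)]), (7, [(0, 3), (3, 5), (5, 2), (2, 4), (4, 1), (6, 8)]), (5, [(1,
   7), (7, 8), (2, 4), (4, 5), (5, 3), (3, 6)]), (5, [(1, 7), (7, 6), (2, 5), (3, 4)]), (7, [(0, 2), (2, 8), (8,
   1), (1, 6), (6, 5), (5, 4), (4, 3), (3, 7)]), (7, [(1, 3), (2, 6)]), (5, [(1, 8), (2, 3), (5, 7), (7, 6)]), (5,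
   [(1, 4), (4, 5), (5, 7), (2, 3), (3, 6), (6, 8)]), (5, [(1, 2), (2, 7), (7, 4), (4, 6), (3, 8), (8, 5)]), (1,
   [(0, 2), (2, 4), (4, 3), (3, 6), (6, 1), (1, 5), (5, 8), (8, 7)]), (7, [(0, 4), (4, 6), (6, 1), (1, 2), (2, 7),
   (7, 8), (8, 3), (3, 5)]), (4, [(0, 3), (1, 2), (2, 4), (5, 7), (7, 8), (8, 6)]), (7, [(0, 3), (3, 5), (5, 2),
   (2, 8), (4, 6), (6, 7)]), (7, [(0, 1), (2, 4), (3, 7), (7, 6), (6, 8), (8, 5)]), (5, [(1, 2), (2, 5), (5, 4),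
   (4, 6), (6, 3), (3, 7)]), (1, [(3, 8), (8, 6), (6, 5), (5, 4)]), (5, [(1, 6), (6, 3), (4, 5), (5, 7)]), (7, [(1,
   4), (4, 5), (5, 3), (3, 7), (7, 6), (6, 2)]), (5, [(1, 2), (2, 4), (4, 7), (7, 6), (6, 5), (5, 3)]), (7, [(1,
   6), (6, 4), (4, 7), (7, 2)]), (5, [(1, 6), (6, 4), (4, 8), (8, 7)]), (4, [(2, 6), (6, 4), (4, 5), (5, 3)]), (5,
   [(2, 7), (7, 5), (3, 6), (6, 8)]), (1, [(1, 5), (5, 6), (6, 4), (4, 3), (3, 2), (7, 8)]), (7, [(2, 7), (3, 4),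
   (4, 6), (6, 5)]), (7, [(1, 6), (2, 5), (5, 4), (3, 7)]), (7, [(1, 4), (2, 3), (3, 7), (6, 8)]), (5, [(1, 3), (3,
   4), (4, 6), (2, 8)]), (7, [(0, 5), (1, 7), (7, 8), (8, 2), (2, 3), (4, 6)]), (5, [(1, 2), (2, 6), (6, 7), (7,
   5), (5, 4), (3, 8)]), (5, [(1, 8), (8, 2), (5, 6), (6, 7)]), (5, [(2, 4), (4, 5)]), (7, [(0, 7), (7, 8), (8, 6),
   (1, 2)]), (7, [(0, 2), (2, 7), (7, 8), (8, 1), (1, 3), (5, 6)]), (7, [(0, 7), (7, 6), (6, 2), (3, 8)]), (5, [(1,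
   4), (4, 2), (2, 8), (8, 3), (3, 7), (7, 5)]), (7, [(1, 2), (2, 6), (6, 8), (8, 5), (5, 4), (4, 7)]), (1, [(0,
   4), (4, 3), (3, 2), (5, 8)]), (1, [(0, 4), (4, 3), (3, 1), (5, 7), (7, 6), (6, 8)]), (7, [(0, 1), (1, 4), (4,
   3), (3, 2), (6, 7), (7, 8)]), (5, [(2, 6), (3, 5), (5, 4), (4, 7)]), (5, [(1, 6), (6, 5), (5, 2), (2, 4), (3,
   8), (8, 7)]), (7, [(0, 3), (1, 8), (8, 2), (2, 4), (4, 7), (7, 5)]), (4, [(0, 6), (1, 4), (4, 5), (5, 2), (2,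
   3), (7, 8)]), (5, [(1, 8), (8, 5), (5, 7), (7, 3), (2, 4), (4, 6)]), (7, [(0, 5), (5, 8), (8, 1), (1, 7), (7,
   3), (3, 6), (6, 2), (2, 4)]), (7, [(0, 8), (8, 1), (1, 3), (3, 7), (7, 6), (6, 5), (5, 2), (2, 4)]), (5, [(1,
   3), (3, 4), (4, 8), (8, 7), (7, 5), (5, 2)]), (7, [(1, 2), (2, 8), (8, 4), (4, 5), (5, 7), (3, 6)]), (7, [(0,
   1), (1, 8), (8, 3), (3, 6), (6, 4), (4, 7)]), (7, [(0, 8), (8, 1), (1, 2), (4, 7)]), (7, [(0, 5), (5, 6), (6,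
   3), (1, 2), (2, 4), (4, 8)]), (7, [(0, 6), (6, 5), (5, 8), (8, 1), (1, 3), (3, 4), (4, 7), (7, 2)]), (7, [(0,
   1), (1, 5), (5, 7), (2, 3), (3, 4), (6, 8)]), (1, [(3, 6), (6, 5), (5, 7), (7, 8)]), (5, [(1, 5), (5, 2), (2,
   8), (8, 7), (7, 6), (6, 3)]), (7, [(0, 7), (7, 6), (6, 8), (1, 2), (2, 4), (4, 5)]), (5, [(1, 4), (2, 8), (3,
   5), (6, 7)]), (1, [(0, 1), (1, 5), (5, 2), (3, 8)]), (7, [(1, 8), (8, 4), (4, 3), (2, 7)]), (1, [(1, 5), (5, 7),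
   (7, 6), (6, 4), (4, 2), (3, 8)]), (7, [(0, 5), (5, 1), (1, 4), (2, 3), (3, 6), (6, 8)]), (7, [(1, 4), (4, 6),
   (6, 7), (7, 2), (2, 8), (8, 5)]), (7, [(0, 4), (4, 1), (1, 3), (3, 6), (6, 7), (7, 8)]), (4, [(0, 2), (1, 6),
   (6, 3), (3, 5), (5, 8), (4, 7)]), (5, [(1, 7), (7, 8), (8, 5), (5, 4), (4, 2), (2, 6)]), (7, [(1, 3), (3, 5),
   (5, 7), (2, 6), (6, 4), (4, 8)]), (7, [(1, 6), (6, 7), (7, 3), (3, 5), (5, 2), (4, 8)]), (4, [(0, 6), (6, 2),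
   (2, 3), (4, 8)]), (7, [(1, 8), (8, 3), (3, 6), (6, 7), (7, 2), (4, 5)]), (7, [(0, 1), (1, 7), (2, 5), (5, 3),
   (3, 6), (6, 8)]), (7, [(0, 3), (3, 8), (8, 2), (2, 7), (7, 4), (5, 6)]), (1, [(3, 4), (5, 6), (6, 7), (7, 8)]),
   (7, [(1, 4), (4, 7), (7, 5), (3, 6)]), (7, [(0, 5), (5, 4), (4, 3), (3, 8), (1, 7), (7, 2)]), (7, [(0, 2), (2,
   3), (3, 5), (5, 7), (1, 8), (4, 6)]), (7, [(0, 6), (6, 8), (8, 1), (2, 7), (3, 5), (5, 4)]), (5, [(1, 8), (2,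
   5), (5, 3), (3, 4), (4, 6), (6, 7)]), (7, [(0, 2), (2, 1), (1, 8), (3, 4), (4, 5), (5, 7)]), (7, [(0, 6), (6,
   7), (7, 1), (1, 5), (5, 4), (4, 2), (2, 3), (3, 8)]), (4, [(1, 5), (5, 3), (2, 8), (8, 7), (7, 4), (4, 6)]), (7,
   [(1, 7), (7, 2), (2, 6), (6, 3), (3, 5), (5, 4)]), (4, [(1, 7), (7, 4), (4, 2), (2, 8), (8, 6), (6, 3)]), (7,
   [(1, 3), (3, 7), (7, 4), (5, 6)]), (7, [(1, 7), (7, 4), (4, 5), (3, 8)]), (7, [(1, 6), (6, 7), (2, 8), (3, 4)]),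
   (7, [(1, 7), (2, 4), (4, 8), (8, 6)]), (5, [(1, 2), (2, 6), (6, 5), (3, 7), (7, 8), (8, 4)]), (7, [(0, 1), (1,
   6), (6, 5), (5, 7)]), (5, [(1, 5), (5, 6), (2, 3), (4, 7)]), (5, [(1, 7), (2, 5), (5, 8), (8, 3), (3, 6), (6,
   4)]), (7, [(1, 6), (6, 7), (7, 8), (8, 5), (5, 4), (2, 3)]), (1, [(0, 3), (3, 1), (2, 8), (8, 7), (7, 5), (5,
   4)]), (7, [(1, 4), (4, 3), (3, 5), (5, 6), (6, 8), (8, 7)]), (7, [(0, 2), (1, 4), (5, 7), (7, 8)]), (7, [(0, 1),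
   (1, 8), (8, 5), (5, 7), (2, 4), (4, 3)]), (4, [(1, 6), (6, 5), (5, 3), (7, 8)]), (5, [(3, 7), (7, 5), (5, 6),
   (6, 4)]), (7, [(0, 1), (1, 2), (2, 5), (5, 7), (7, 8), (8, 3)]), (7, [(1, 6), (6, 8), (8, 3), (3, 7), (2, 4),
   (4, 5)]), (7, [(0, 8), (8, 5), (2, 3), (3, 6)]), (1, [(0, 4), (4, 7), (7, 2), (2, 1), (1, 5), (5, 3), (3, 8),
   (8, 6)]), (7, [(1, 6), (2, 3), (3, 4), (4, 5), (5, 8), (8, 7)]), (7, [(1, 8), (8, 6), (6, 2), (2, 3), (4, 5),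
   (5, 7)]), (7, [(1, 4), (2, 6), (5, 8), (8, 7)]), (7, [(1, 2), (2, 7), (7, 5), (5, 6)]), (7, [(1, 7), (7, 5), (5,
   3), (2, 4)]), (7, [(0, 1), (1, 2), (2, 6), (3, 5), (5, 4), (7, 8)]), (7, [(0, 6), (6, 1), (1, 7), (7, 5), (5,
   8), (2, 3)]), (7, [(0, 5), (5, 6), (2, 3), (7, 8)]), (1, [(1, 8), (8, 7), (7, 5), (5, 6), (6, 4), (4, 2)]), (7,
   [(0, 1), (1, 8), (8, 2), (3, 7)]), (7, [(1, 3), (3, 4), (4, 7), (2, 5)]), (7, [(1, 4), (4, 6), (2, 3), (3, 5)]),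
   (7, [(0, 4), (4, 7), (7, 8), (8, 3), (1, 6), (6, 5)]), (7, [(0, 8), (8, 4), (4, 5), (5, 1), (3, 7), (7, 6)]),
   (7, [(1, 7), (7, 8), (8, 4), (4, 6), (2, 5), (5, 3)]), (5, [(1, 3), (3, 6), (2, 7), (4, 5)]), (7, [(1, 5), (5,
   7), (7, 3), (4, 6)]), (7, [(1, 6), (6, 5), (2, 4), (4, 3)]), (7, [(2, 3), (3, 6), (6, 7), (7, 4)]), (7, [(1, 2),
   (2, 6), (6, 7), (7, 3), (3, 4), (4, 5)]), (5, [(1, 8), (8, 3)]), (7, [(0, 5), (5, 3), (3, 7), (7, 8), (8, 4),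
   (4, 2), (2, 1), (1, 6)]), (7, [(0, 4), (1, 3), (3, 2), (2, 7), (7, 8), (8, 5)]), (1, [(0, 4), (4, 3), (3, 8),
   (8, 5), (5, 2), (1, 6)]), (7, [(0, 7), (7, 8), (8, 2), (2, 3), (3, 4), (4, 1)]), (7, [(0, 4), (4, 6), (6, 7),
   (7, 8), (8, 1), (1, 5), (5, 2), (2, 3)]), (5, [(1, 3), (2, 8), (8, 5), (5, 6), (6, 7), (7, 4)]), (7, [(1, 8),
   (8, 5), (5, 6), (6, 3), (3, 2), (4, 7)]), (5, [(1, 5), (5, 2), (2, 4), (4, 6), (3, 7), (7, 8)]), (7, [(0, 1),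
   (1, 2), (2, 4), (4, 6), (6, 7), (3, 5)]), (7, [(0, 2), (2, 3), (3, 6), (1, 4), (4, 7), (7, 8)]), (7, [(0, 3),
   (3, 2), (2, 7), (7, 5), (5, 8), (8, 4), (4, 1), (1, 6)]), (7, [(0, 1), (1, 4), (4, 2), (2, 6), (6, 3), (3, 7)]),
   (7, [(0, 6), (6, 3), (3, 2), (2, 4), (4, 1), (1, 5), (5, 7), (7, 8)]), (7, [(1, 5), (5, 4), (4, 3), (3, 6), (6,
   2), (2, 7)]), (7, [(1, 3), (3, 4), (4, 2), (2, 7), (7, 8), (8, 6)]), (7, [(0, 7), (7, 8), (1, 6), (6, 2), (2,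
   4), (4, 3)]), (7, [(2, 5), (5, 7), (7, 6), (6, 3)])]

theorem chkG_B27 : chkG 9 gB27 eB27 = true := by decide +kernel

theorem chkC_B27 : chkC 9 gB27 eB27 [] r9t dB27 = true := by decide +kernel

theorem len_B27 : eB27.length = 27 := by decide +kernel

theorem cnt_B27 : (List.range 8).map (fun k => (dB27.map Prod.fst).count k) = [1, 0, 6, 12, 8, 0, 0, 0] := by decide +kernel

theorem chkG_W81 : chkG 9 gW81 eW81 = true := by decide +kernel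

theorem chkC_W81 : chkC 9 gW81 eW81 [] r9t dW81 = true := by decide +kernel

theorem len_W81 : eW81.length = 81 := by decide +kernel

theorem cnt_W81 : (List.range 8).map (fun k => (dW81.map Prod.fst).count k) = [1, 0, 6, 12, 26, 18, 18, 0] := by decide +kernel

theorem chkG_D18 : chkG 9 gD18 eD18 = true := by decide +kernel

theorem chkC_D18 : chkC 9 gD18 eD18 [] r9t dD18 = true := by decide +kernel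

theorem len_D18 : eD18.length = 18 := by decide +kernel

theorem cnt_D18 : (List.range 8).map (fun k => (dD18.map Prod.fst).count k) = [1, 9, 0, 0, 2, 6, 0, 0] := by decide +kernel

theorem chkG_R8 : chkG 9 gR8 eR8 = true := by decide +kernel

theorem chkC_R8 : chkC 9 gR8 eR8 [] r9t dR8 = true := by decide +kernel

theorem len_R8 : eR8.length = 8 := by decide +kernel

theorem cnt_R8 : (List.range 8).map (fun k => (dR8.map Prod.fst).count k) = [1, 7, 0, 0, 0, 0, 0, 0] := by decide +kernel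

theorem chkG_R56 : chkG 9 gR56 eR56 = true := by decide +kernel

theorem chkC_R56 : chkC 9 gR56 eR56 [] r9t dR56 = true := by decide +kernel

theorem len_R56 : eR56.length = 56 := by decide +kernel

theorem cnt_R56 : (List.range 8).map (fun k => (dR56.map Prod.fst).count k) = [1, 7, 0, 0, 0, 0, 0, 48] := by decide +kernel

theorem chkG_R8L : chkG 9 gR8L eR8L = true := by decide +kernel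

theorem chkC_R8L : chkC 9 gR8L eR8L [] r9t dR8L = true := by decide +kernel

theorem len_R8L : eR8L.length = 8 := by decide +kernel

theorem cnt_R8L : (List.range 8).map (fun k => (dR8L.map Prod.fst).count k) = [1, 7, 0, 0, 0, 0, 0, 0] := by decide +kernel

theorem chkG_L28 : chkG 9 gL28 eL28 = true := by decide +kernel

theorem chkC_L28 : chkC 9 gL28 eL28 [] r9t dL28 = true := by decide +kernel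

theorem len_L28 : eL28.length = 504 := by decide +kernel

theorem cnt_L28 : (List.range 8).map (fun k => (dL28.map Prod.fst).count k) = [1, 63, 0, 0, 56, 168, 0, 216] := by decide +kernel

end Cfsg.Agent.R2.T1.Odd
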