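import Cfsg.Agent.R2.T1.Odd.El
import Cfsg.Agent.R2.T1.Odd.Tab

/-!
# S5771, ODD5: the types of the 2-elements, `p` odd (helper11)

* `E_t`, `E_s`, `E_42`, `E_44` : `ev` = 32, 24, 16, 12 on `V` for the elements of type `2²`, `2⁴`, `42`, `44` of `A_n`, `n ≥ 8`,
  for every odd `p`;
* `fr_Q`, `fr_Qs`, `fr_Qj` : the fixed points of `Q`, `Q⟨s'⟩`, `Q⟨j⟩` have dimensions 2, 0, 2.
-/

set_option autoImplicit false
set_option maxRecDepth 100000

namespace Cfsg.Agent.R2.T1.Odd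

open Cfsg Cfsg.Lie Module
open Cfsg.Agent.H943.E7V.Block (D1 rho)
open Cfsg.Agent.H952.F4 (ev es)
open Cfsg.Agent.R2.T1.Art

universe u v

/-! ### powers -/

section pow
variable {n : ℕ} [NeZero n]

/-- powers -/
def pwl (l : List (ℕ × ℕ)) (k : ℕ) : List (ℕ × ℕ) := (List.replicate k l).flatten

theorem vl_pwl {m : ℕ} {l : List (ℕ × ℕ)} (h : vl m l = true) (k : ℕ) : vl m (pwl l k) = true := by
  induction k with
  | zero => rfl
  | succ k ih =>
    have h1 : pwl l (k + 1) = l ++ pwl l k := rfl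
    rw [h1]
    exact vl_append h ih

theorem P_pwl {m : ℕ} (hm : m ≤ n) {l : List (ℕ × ℕ)} (h : vl m l = true) (k : ℕ) : P n (pwl l k) = P n l ^ k := by
  induction k with
  | zero => rw [pow_zero]; exact P_nil
  | succ k ih =>
    have h1 : pwl l (k + 1) = l ++ pwl l k := rfl
    rw [h1, P_append hm h (vl_pwl h k), ih, pow_succ']

theorem P_pow_eq {m : ℕ} (hm : m ≤ n) {l l' : List (ℕ × ℕ)} (h : vl m l = true) (h' : vl m l' = true) {k : ℕ}
    (hc : cd m (pwl l k) = cd m l') : P n l ^ k = P n l' := by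
  rw [← P_pwl hm h, P_eq_iff hm (vl_pwl h k) h']
  exact hc

theorem P_pow_one {m : ℕ} (hm : m ≤ n) {l : List (ℕ × ℕ)} (h : vl m l = true) {k : ℕ}
    (hc : cd m (pwl l k) = cd m []) : P n l ^ k = 1 := by
  rw [P_pow_eq hm h (l' := []) rfl hc, P_nil]

theorem P_ne {m : ℕ} (hm : m ≤ n) {l l' : List (ℕ × ℕ)} (h : vl m l = true) (h' : vl m l' = true)
    (hc : cd m l ≠ cd m l') : P n l ≠ P n l' := by
  rw [Ne, P_eq_iff hm h h']
  exact hc

/-- the check of the order -/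
def chkO (m : ℕ) (l : List (ℕ × ℕ)) (r : ℕ) : Bool :=
  vl m l && decide (0 < r) && cd m (pwl l r) == cd m [] && r.primeFactorsList.all fun q => !(cd m (pwl l (r / q)) == cd m [])

theorem orderOf_P {m : ℕ} (hm : m ≤ n) {l : List (ℕ × ℕ)} {r : ℕ} (h : chkO m l r = true) : orderOf (P n l) = r := by
  unfold chkO at h
  simp only [Bool.and_eq_true, decide_eq_true_eq, beq_iff_eq] at h
  obtain ⟨⟨⟨h1, h2⟩, h3⟩, h4⟩ := h
  apply orderOf_eq_of_pow_and_pow_div_prime h2 (P_pow_one hm h1 h3)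
  intro q hq hqr h5
  have h6 := List.all_eq_true.1 h4 q ((Nat.mem_primeFactorsList h2.ne').2 ⟨hq, hqr⟩)
  rw [← P_pwl hm h1, ← P_nil, P_eq_iff hm (vl_pwl h1 _) rfl] at h5
  rw [h5] at h6
  simp at h6

end pow

/-! ### dimension formulas -/

section dim
variable {n m : ℕ} [NeZero n] {gens : List (List (ℕ × ℕ))} {els : List (List ℕ)}
  {F : Type*} [Field F] [Finite F] {W : Type*} [AddCommGroup W] [Module F W] [FiniteDimensional F W]

theorem dimC (hm : m ≤ n) (h : chkG m gens els = true) {reps : List (List (ℕ × ℕ))}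
    {dat : List (ℕ × List (ℕ × ℕ))} (hC : chkC m gens els [] reps dat = true) {N K : ℕ} (hN : els.length = N)
    (hK : reps.length = K) (hF : (N : F) ≠ 0)
    {c : List ℕ} (hc : (List.range K).map (fun k => (dat.map Prod.fst).count k) = c)
    (ρ : Representation F ↥(alternatingGroup (Fin n)) W) :
    (N : ℚ) * (finrank F ↥(inv ρ (Tg n gens)) : ℚ) =
      ∑ k ∈ Finset.range K, (c.getD k 0 : ℚ) * om ρ (P n (reps.getD k [])) := by
  subst hN hK
  rw [dimT hm h hC hF ρ]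
  refine Finset.sum_congr rfl fun k hk => ?_
  have h1 : c.getD k 0 = (dat.map Prod.fst).count k := by
    have h2 : k < ((List.range reps.length).map (fun k => (dat.map Prod.fst).count k)).length := by
      rw [List.length_map, List.length_range]
      exact Finset.mem_range.1 hk
    rw [← hc, List.getD_eq_getElem _ _ h2, List.getElem_map, List.getElem_range]
  rw [h1]

end dim

/-- the elements -/
def lt : List (ℕ × ℕ) := [(0, 1), (2, 3)]
def ls : List (ℕ × ℕ) := [(0, 1), (2, 3), (4, 5), (6, 7)]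
def l42 : List (ℕ × ℕ) := [(0, 1), (1, 2), (2, 3), (4, 5)]
def l44 : List (ℕ × ℕ) := [(0, 1), (1, 2), (2, 3), (4, 5), (5, 6), (6, 7)]
def l3 : List (ℕ × ℕ) := [(0, 1), (1, 2)]
def l33 : List (ℕ × ℕ) := [(0, 1), (1, 2), (4, 5), (5, 6)]

theorem r8_eq : r8 = [[], lt, ls, l42, l44, l3, l33] := by decide

section dims
variable {n : ℕ} [NeZero n] (hn : 8 ≤ n) {F : Type*} [Field F] [Finite F] (h2 : (2 : F) ≠ 0) {W : Type*} [AddCommGroup W]
  [Module F W] [FiniteDimensional F W] (ρ : Representation F ↥(alternatingGroup (Fin n)) W)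
include hn h2

omit [NeZero n] [Finite F] hn in
theorem two_pow_ne (k : ℕ) : ((2 ^ k : ℕ) : F) ≠ 0 := by
  rw [Nat.cast_pow]
  exact pow_ne_zero k (by exact_mod_cast h2)

omit [NeZero n] [Finite F] hn in
theorem three_pow_ne (h3 : (3 : F) ≠ 0) (j k : ℕ) : ((2 ^ j * 3 ^ k : ℕ) : F) ≠ 0 := by
  rw [Nat.cast_mul, Nat.cast_pow, Nat.cast_pow]
  exact mul_ne_zero (pow_ne_zero j (by exact_mod_cast h2)) (pow_ne_zero k (by exact_mod_cast h3))

theorem dim_Q : 16 * (finrank F ↥(inv ρ (Tg n gQ)) : ℚ) = om ρ 1 + 6 * om ρ (P n lt) + 9 * om ρ (P n ls) := by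
  have h := dimC hn chkG_Q chkC_Q len_Q (K := 7) rfl (by simpa using two_pow_ne h2 4) cnt_Q ρ
  simp only [r8_eq, Finset.sum_range_succ, Finset.sum_range_zero, List.getD_cons_zero, List.getD_cons_succ, P_nil] at h
  push_cast at h
  linear_combination h

theorem dim_Qs : 32 * (finrank F ↥(inv ρ (Tg n gQs)) : ℚ) = om ρ 1 + 6 * om ρ (P n lt) + 13 * om ρ (P n ls) +
    12 * om ρ (P n l44) := by
  have h := dimC hn chkG_Qs chkC_Qs len_Qs (K := 7) rfl (by simpa using two_pow_ne h2 5) cnt_Qs ρ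
  simp only [r8_eq, Finset.sum_range_succ, Finset.sum_range_zero, List.getD_cons_zero, List.getD_cons_succ, P_nil] at h
  push_cast at h
  linear_combination h

theorem dim_Qj : 32 * (finrank F ↥(inv ρ (Tg n gQj)) : ℚ) = om ρ 1 + 10 * om ρ (P n lt) + 9 * om ρ (P n ls) +
    8 * om ρ (P n l42) + 4 * om ρ (P n l44) := by
  have h := dimC hn chkG_Qj chkC_Qj len_Qj (K := 7) rfl (by simpa using two_pow_ne h2 5) cnt_Qj ρ
  simp only [r8_eq, Finset.sum_range_succ, Finset.sum_range_zero, List.getD_cons_zero, List.getD_cons_succ, P_nil] at h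
  push_cast at h
  linear_combination h

theorem dim_K : 16 * (finrank F ↥(inv ρ (Tg n gK)) : ℚ) = om ρ 1 + 2 * om ρ (P n lt) + 5 * om ρ (P n ls) +
    8 * om ρ (P n l42) := by
  have h := dimC hn chkG_K chkC_K len_K (K := 7) rfl (by simpa using two_pow_ne h2 4) cnt_K ρ
  simp only [r8_eq, Finset.sum_range_succ, Finset.sum_range_zero, List.getD_cons_zero, List.getD_cons_succ, P_nil] at h
  push_cast at h
  linear_combination h

theorem dim_A4 (h3 : (3 : F) ≠ 0) : 12 * (finrank F ↥(inv ρ (Tg n gA4)) : ℚ) = om ρ 1 + 3 * om ρ (P n lt) +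
    8 * om ρ (P n l3) := by
  have h := dimC hn chkG_A4 chkC_A4 len_A4 (K := 7) rfl (by simpa using three_pow_ne h2 h3 2 1) cnt_A4 ρ
  simp only [r8_eq, Finset.sum_range_succ, Finset.sum_range_zero, List.getD_cons_zero, List.getD_cons_succ, P_nil] at h
  push_cast at h
  linear_combination h

theorem dim_S4 (h3 : (3 : F) ≠ 0) : 24 * (finrank F ↥(inv ρ (Tg n gS4)) : ℚ) = om ρ 1 + 9 * om ρ (P n lt) +
    6 * om ρ (P n l42) + 8 * om ρ (P n l3) := by
  have h := dimC hn chkG_S4 chkC_S4 len_S4 (K := 7) rfl (by simpa using three_pow_ne h2 h3 3 1) cnt_S4 ρ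
  simp only [r8_eq, Finset.sum_range_succ, Finset.sum_range_zero, List.getD_cons_zero, List.getD_cons_succ, P_nil] at h
  push_cast at h
  linear_combination h

theorem dim_Qy (h3 : (3 : F) ≠ 0) : 48 * (finrank F ↥(inv ρ (Tg n gQy)) : ℚ) = om ρ 1 + 6 * om ρ (P n lt) +
    9 * om ρ (P n ls) + 32 * om ρ (P n l33) := by
  have h := dimC hn chkG_Qy chkC_Qy len_Qy (K := 7) rfl (by simpa using three_pow_ne h2 h3 4 1) cnt_Qy ρ
  simp only [r8_eq, Finset.sum_range_succ, Finset.sum_range_zero, List.getD_cons_zero, List.getD_cons_succ, P_nil] at h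
  push_cast at h
  linear_combination h

end dims

/-! ### the types -/

section types
variable {n : ℕ} [NeZero n] (hn : 8 ≤ n) {F : Type u} [Field F] [Finite F] (h2 : (2 : F) ≠ 0)
  {ψ : ↥(alternatingGroup (Fin n)) →* Gh F} (hψ : ∀ a, ad F (ψ a) = 1 → a = 1)
include hn h2 hψ

omit [Finite F] h2 in
theorem psi_ne {l : List (ℕ × ℕ)} (h : vl 8 l = true) (hc : cd 8 l ≠ cd 8 []) : ad F (ψ (P n l)) ≠ 1 := by
  intro h1
  exact P_ne hn h rfl hc (by rw [hψ _ h1, P_nil])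

theorem two_cases {l : List (ℕ × ℕ)} (h : vl 8 l = true) (hc : cd 8 l ≠ cd 8 []) (hp : cd 8 (pwl l 2) = cd 8 []) :
    ev (V F (ψ (P n l))) 1 = 32 ∨ ev (V F (ψ (P n l))) 1 = 24 :=
  (two h2 (by rw [← map_mul, ← pow_two, P_pow_one hn h hp, map_one]) (psi_ne hn hψ h hc)).1

omit [NeZero n] [Finite F] hn h2 hψ in
theorem finrank_R : finrank F (D1 → F) = 56 := finrank_V

omit [Finite F] h2 hψ in
theorem P_conj {x c r : List (ℕ × ℕ)} (hx : vl 8 x = true) (hc : vl 8 c = true) (hr : vl 8 r = true)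
    (h : cd 8 (x ++ c) = cd 8 (c ++ r)) : P n x = P n c * P n r * (P n c)⁻¹ := by
  rw [← P_append hn hc hr, ← (P_eq_iff hn (vl_append hx hc) (vl_append hc hr)).2 h, P_append hn hx hc, mul_inv_cancel_right]

omit [Finite F] h2 hψ in
theorem ev_P_conj {W : Type*} [AddCommGroup W] [Module F W] (ρ : Representation F ↥(alternatingGroup (Fin n)) W)
    {x c r : List (ℕ × ℕ)} (hx : vl 8 x = true) (hc : vl 8 c = true) (hr : vl 8 r = true)
    (h : cd 8 (x ++ c) = cd 8 (c ++ r)) (μ : F) : ev (ρ (P n x)) μ = ev (ρ (P n r)) μ := by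
  rw [P_conj hn hx hc hr h, Cfsg.Agent.H944.E6T.ev_conj]

omit [Field F] [Finite F] hn h2 hψ in
theorem gQ_le_gQs : Tg n gQ ≤ Tg n gQs := by
  unfold Tg
  refine Subgroup.closure_mono ?_
  rintro x ⟨g, hg, rfl⟩
  refine ⟨g, ?_, rfl⟩
  revert g
  decide

omit [Field F] [Finite F] hn h2 hψ in
theorem gQ_le_gQj : Tg n gQ ≤ Tg n gQj := by
  unfold Tg
  refine Subgroup.closure_mono ?_
  rintro x ⟨g, hg, rfl⟩
  refine ⟨g, ?_, rfl⟩
  revert g
  decide

/-- the data of the 2-elements -/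
theorem types : ev (V F (ψ (P n lt))) 1 = 32 ∧ ev (V F (ψ (P n ls))) 1 = 24 ∧ ev (V F (ψ (P n l42))) 1 = 16 ∧
    ev (V F (ψ (P n l44))) 1 = 12 ∧ finrank F ↥(inv (MonoidHom.comp (V F) ψ) (Tg n gQ)) = 2 ∧
    finrank F ↥(inv (MonoidHom.comp (V F) ψ) (Tg n gQs)) = 0 ∧
    finrank F ↥(inv (MonoidHom.comp (V F) ψ) (Tg n gQj)) = 2 := by
  set ρ : Representation F ↥(alternatingGroup (Fin n)) (D1 → F) := MonoidHom.comp (V F) ψ with hρ
  have e0 : om ρ 1 = 56 := by rw [om_one, finrank_V]; norm_num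
  have et : om ρ (P n lt) = 2 * (ev (ρ (P n lt)) 1 : ℚ) - 56 := by
    rw [om_prime ρ Nat.prime_two (orderOf_P hn (by decide +kernel)), finrank_V]
    norm_num
  have es : om ρ (P n ls) = 2 * (ev (ρ (P n ls)) 1 : ℚ) - 56 := by
    rw [om_prime ρ Nat.prime_two (orderOf_P hn (by decide +kernel)), finrank_V]
    norm_num
  have e42 : om ρ (P n l42) = 2 * (ev (ρ (P n l42)) 1 : ℚ) - (ev (ρ (P n lt)) 1 : ℚ) := by
    rw [om_four ρ (orderOf_P hn (by decide +kernel)), ← P_pwl hn (m := 8) (by decide),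
      ev_P_conj hn ρ (x := pwl l42 2) (c := [(1, 2), (4, 5)]) (r := lt) (by decide) (by decide) (by decide) (by decide)]
  have e44 : om ρ (P n l44) = 2 * (ev (ρ (P n l44)) 1 : ℚ) - (ev (ρ (P n ls)) 1 : ℚ) := by
    rw [om_four ρ (orderOf_P hn (by decide +kernel)), ← P_pwl hn (m := 8) (by decide),
      ev_P_conj hn ρ (x := pwl l44 2) (c := [(1, 2), (5, 6)]) (r := ls) (by decide) (by decide) (by decide) (by decide)]
  have h4t : 4 ∣ ev (ρ (P n l42)) 1 :=
    four_dvd h2 (by rw [← map_pow, P_pow_one hn (m := 8) (by decide) (by decide), map_one])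
  have h4s : 4 ∣ ev (ρ (P n l44)) 1 :=
    four_dvd h2 (by rw [← map_pow, P_pow_one hn (m := 8) (by decide) (by decide), map_one])
  have ht : ev (ρ (P n lt)) 1 = 32 ∨ ev (ρ (P n lt)) 1 = 24 := two_cases hn h2 hψ (by decide) (by decide) (by decide)
  have hs : ev (ρ (P n ls)) 1 = 32 ∨ ev (ρ (P n ls)) 1 = 24 := two_cases hn h2 hψ (by decide) (by decide) (by decide)
  have dQ := dim_Q hn h2 ρ
  have dQs := dim_Qs hn h2 ρ
  have dQj := dim_Qj hn h2 ρ
  have dK := dim_K hn h2 ρ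
  have m1 : finrank F ↥(inv ρ (Tg n gQs)) ≤ finrank F ↥(inv ρ (Tg n gQ)) := Submodule.finrank_mono (inv_mono gQ_le_gQs)
  have m2 : finrank F ↥(inv ρ (Tg n gQj)) ≤ finrank F ↥(inv ρ (Tg n gQ)) := Submodule.finrank_mono (inv_mono gQ_le_gQj)
  rw [e0, et, es] at dQ
  rw [e0, et, es, e44] at dQs
  rw [e0, et, es, e42, e44] at dQj
  rw [e0, et, es, e42] at dK
  show ev (ρ (P n lt)) 1 = 32 ∧ ev (ρ (P n ls)) 1 = 24 ∧ ev (ρ (P n l42)) 1 = 16 ∧ ev (ρ (P n l44)) 1 = 12 ∧ _ = 2 ∧ _ = 0 ∧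
    _ = 2
  generalize ev (ρ (P n lt)) 1 = a at *
  generalize ev (ρ (P n ls)) 1 = b at *
  generalize ev (ρ (P n l42)) 1 = c at *
  generalize ev (ρ (P n l44)) 1 = d at *
  generalize finrank F ↥(inv ρ (Tg n gQ)) = q at *
  generalize finrank F ↥(inv ρ (Tg n gQs)) = qs at *
  generalize finrank F ↥(inv ρ (Tg n gQj)) = qj at *
  generalize finrank F ↥(inv ρ (Tg n gK)) = k at *
  have dQ' : 16 * (q : ℤ) = 56 + 6 * (2 * a - 56) + 9 * (2 * b - 56) := by exact_mod_cast dQ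
  have dQs' : 32 * (qs : ℤ) = 56 + 6 * (2 * a - 56) + 13 * (2 * b - 56) + 12 * (2 * d - b) := by exact_mod_cast dQs
  have dQj' : 32 * (qj : ℤ) = 56 + 10 * (2 * a - 56) + 9 * (2 * b - 56) + 8 * (2 * c - a) + 4 * (2 * d - b) := by
    exact_mod_cast dQj
  have dK' : 16 * (k : ℤ) = 56 + 2 * (2 * a - 56) + 5 * (2 * b - 56) + 8 * (2 * c - a) := by exact_mod_cast dK
  omega

end types

end Cfsg.Agent.R2.T1.Odd
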